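import Cfsg.Agent.H130.WeylTab
import Cfsg.Agent.Nodes.RGDChev

/-!
# The characteristic polynomials of the Weyl group of type F4 (helper130)

`charpoly_F4` : `det (w - x) = x^4 - e₁ x^3 + e₂ x^2 - e₃ x + e₄` with `[e₁, e₂, e₃, e₄]` in the list `polys` of 17
polynomials.
-/

set_option autoImplicit false

namespace Cfsg.Agent.H130.F4Poly

open Cfsg.Agent.ChevalleyStructure.CoxeterGeom Cfsg.Agent.ChevalleyStructure.CoxeterGeomTypes
open Cfsg.Agent.H130.WeylCk Cfsg.Agent.H130.WeylTab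

/-! ### characteristic polynomials of 4×4 matrices given by columns -/

/-- the coefficients of the characteristic polynomial of the matrix with the given columns -/
def pol : List ℤ → List ℤ → List ℤ → List ℤ → List ℤ
  | [a0, a1, a2, a3], [b0, b1, b2, b3], [c0, c1, c2, c3], [d0, d1, d2, d3] =>
    [a0 + b1 + c2 + d3,
     (a0 * b1 - b0 * a1) + (a0 * c2 - c0 * a2) + (a0 * d3 - d0 * a3) + (b1 * c2 - c1 * b2) + (b1 * d3 - d1 * b3) +
       (c2 * d3 - d2 * c3),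
     (a0 * (b1 * c2 - c1 * b2) - b0 * (a1 * c2 - c1 * a2) + c0 * (a1 * b2 - b1 * a2)) +
     (a0 * (b1 * d3 - d1 * b3) - b0 * (a1 * d3 - d1 * a3) + d0 * (a1 * b3 - b1 * a3)) +
     (a0 * (c2 * d3 - d2 * c3) - c0 * (a2 * d3 - d2 * a3) + d0 * (a2 * c3 - c2 * a3)) +
     (b1 * (c2 * d3 - d2 * c3) - c1 * (b2 * d3 - d2 * b3) + d1 * (b2 * c3 - c2 * b3)),
     a0 * (b1 * (c2 * d3 - d2 * c3) - c1 * (b2 * d3 - d2 * b3) + d1 * (b2 * c3 - c2 * b3)) -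
     b0 * (a1 * (c2 * d3 - d2 * c3) - c1 * (a2 * d3 - d2 * a3) + d1 * (a2 * c3 - c2 * a3)) +
     c0 * (a1 * (b2 * d3 - d2 * b3) - b1 * (a2 * d3 - d2 * a3) + d1 * (a2 * b3 - b2 * a3)) -
     d0 * (a1 * (b2 * c3 - c2 * b3) - b1 * (a2 * c3 - c2 * a3) + c1 * (a2 * b3 - b2 * a3))]
  | _, _, _, _ => []

/-- the value of the polynomial -/
def evp (e : List ℤ) (x : ℤ) : ℤ := x ^ 4 - e.getD 0 0 * x ^ 3 + e.getD 1 0 * x ^ 2 - e.getD 2 0 * x + e.getD 3 0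

theorem list4 {v : List ℤ} (h : v.length = 4) : ∃ a b c d, v = [a, b, c, d] := by
  match v, h with
  | [a, b, c, d], _ => exact ⟨a, b, c, d, rfl⟩

theorem det_pol {f : Module.End ℤ (Fin 4 → ℤ)} {a b c d : List ℤ} (ha : a.length = 4) (hb : b.length = 4)
    (hc : c.length = 4) (hd : d.length = 4) (h0 : f (Pi.single 0 1) = toFn 4 a) (h1 : f (Pi.single 1 1) = toFn 4 b)
    (h2 : f (Pi.single 2 1) = toFn 4 c) (h3 : f (Pi.single 3 1) = toFn 4 d) (x : ℤ) :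
    LinearMap.det (f - x • (1 : Module.End ℤ (Fin 4 → ℤ))) = evp (pol a b c d) x := by
  obtain ⟨a0, a1, a2, a3, rfl⟩ := list4 ha
  obtain ⟨b0, b1, b2, b3, rfl⟩ := list4 hb
  obtain ⟨c0, c1, c2, c3, rfl⟩ := list4 hc
  obtain ⟨d0, d1, d2, d3, rfl⟩ := list4 hd
  rw [← LinearMap.det_toMatrix']
  have hM : LinearMap.toMatrix' (f - x • (1 : Module.End ℤ (Fin 4 → ℤ))) =
      !![a0 - x, b0, c0, d0; a1, b1 - x, c1, d1; a2, b2, c2 - x, d2; a3, b3, c3, d3 - x] := by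
    ext i j
    rw [LinearMap.toMatrix'_apply]
    rw [LinearMap.sub_apply, LinearMap.smul_apply, Module.End.one_apply]
    fin_cases j
    · show (f (Pi.single 0 1) - x • (Pi.single 0 1 : Fin 4 → ℤ)) i = _
      rw [h0]
      fin_cases i <;> simp [toFn]
    · show (f (Pi.single 1 1) - x • (Pi.single 1 1 : Fin 4 → ℤ)) i = _
      rw [h1]
      fin_cases i <;> simp [toFn]
    · show (f (Pi.single 2 1) - x • (Pi.single 2 1 : Fin 4 → ℤ)) i = _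
      rw [h2]
      fin_cases i <;> simp [toFn]
    · show (f (Pi.single 3 1) - x • (Pi.single 3 1 : Fin 4 → ℤ)) i = _
      rw [h3]
      fin_cases i <;> simp [toFn]
  rw [hM]
  simp only [Matrix.det_succ_row_zero, Fin.sum_univ_succ]
  simp [Fin.succAbove, pol, evp, Matrix.submatrix]
  ring

/-! ### the roots -/

/-- the long roots with their images under the form -/
def RL : List (List ℤ × List ℤ) :=
  [([-2, -4, -3, -2], [0, 0, 0, -2]), ([-2, -4, -3, -1], [0, 0, -2, 2]), ([-2, -4, -2, -1], [0, -2, 2, 0]),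
  ([-2, -2, -2, -1], [-2, 2, -2, 0]), ([-2, -2, -1, -1], [-2, 0, 2, -2]), ([-2, -2, -1, 0], [-2, 0, 0, 2]),
  ([0, -2, -2, -1], [2, 0, -2, 0]), ([0, -2, -1, -1], [2, -2, 2, -2]), ([0, -2, -1, 0], [2, -2, 0, 2]), ([0,
  0, -1, -1], [0, 2, -2, -2]), ([0, 0, -1, 0], [0, 2, -4, 2]), ([0, 0, 0, -1], [0, 0, 2, -4]), ([0, 0, 0, 1],
  [0, 0, -2, 4]), ([0, 0, 1, 0], [0, -2, 4, -2]), ([0, 0, 1, 1], [0, -2, 2, 2]), ([0, 2, 1, 0], [-2, 2, 0,
  -2]), ([0, 2, 1, 1], [-2, 2, -2, 2]), ([0, 2, 2, 1], [-2, 0, 2, 0]), ([2, 2, 1, 0], [2, 0, 0, -2]), ([2, 2,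
  1, 1], [2, 0, -2, 2]), ([2, 2, 2, 1], [2, -2, 2, 0]), ([2, 4, 2, 1], [0, 2, -2, 0]), ([2, 4, 3, 1], [0, 0,
  2, -2]), ([2, 4, 3, 2], [0, 0, 0, 2])]

/-- the short roots with their images under the form -/
def RS : List (List ℤ × List ℤ) :=
  [([-2, -3, -2, -1], [-1, 0, 0, 0]), ([-1, -3, -2, -1], [1, -1, 0, 0]), ([-1, -2, -2, -1], [0, 1, -2, 0]),
  ([-1, -2, -1, -1], [0, -1, 2, -2]), ([-1, -2, -1, 0], [0, -1, 0, 2]), ([-1, -1, -1, -1], [-1, 1, 0, -2]),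
  ([-1, -1, -1, 0], [-1, 1, -2, 2]), ([-1, -1, 0, 0], [-1, -1, 2, 0]), ([-1, 0, 0, 0], [-2, 1, 0, 0]), ([0,
  -1, -1, -1], [1, 0, 0, -2]), ([0, -1, -1, 0], [1, 0, -2, 2]), ([0, -1, 0, 0], [1, -2, 2, 0]), ([0, 1, 0, 0],
  [-1, 2, -2, 0]), ([0, 1, 1, 0], [-1, 0, 2, -2]), ([0, 1, 1, 1], [-1, 0, 0, 2]), ([1, 0, 0, 0], [2, -1, 0,
  0]), ([1, 1, 0, 0], [1, 1, -2, 0]), ([1, 1, 1, 0], [1, -1, 2, -2]), ([1, 1, 1, 1], [1, -1, 0, 2]), ([1, 2,
  1, 0], [0, 1, 0, -2]), ([1, 2, 1, 1], [0, 1, -2, 2]), ([1, 2, 2, 1], [0, -1, 2, 0]), ([1, 3, 2, 1], [-1, 1,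
  0, 0]), ([2, 3, 2, 1], [1, 0, 0, 0])]

/-- the characteristic polynomials -/
def polys : List (List ℤ) :=
  [[-4, 6, -4, 1], [-2, 0, 2, -1], [-2, 2, -2, 1], [-2, 3, -2, 1], [-1, 0, -1, 1], [-1, 0, 1, -1], [0, -2, 0,
  1], [0, -1, 0, 1], [0, 0, 0, -1], [0, 0, 0, 1], [0, 2, 0, 1], [1, 0, -1, -1], [1, 0, 1, 1], [2, 0, -2, -1],
  [2, 2, 2, 1], [2, 3, 2, 1], [4, 6, 4, 1]]

/-- the check -/
def Chk : Prop :=
  ∀ a ∈ RS, ∀ b ∈ RS, dot a.2 b.1 = -1 → ∀ c ∈ RL, dot b.2 c.1 = -2 → dot a.2 c.1 = 0 →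
    ∀ d ∈ RL, dot c.2 d.1 = -2 → dot b.2 d.1 = 0 → dot a.2 d.1 = 0 → pol a.1 b.1 c.1 d.1 ∈ polys

instance : Decidable Chk := by unfold Chk; infer_instance

theorem chk : Chk := by decide +kernel

/-! ### the form -/

/-- the Gram matrix -/
def Gr : Fin 4 → Fin 4 → ℤ := ![![2, -1, 0, 0], ![-1, 2, -2, 0], ![0, -2, 4, -2], ![0, 0, -2, 4]]

/-- the form -/
def Bf (x y : Fin 4 → ℤ) : ℤ := ∑ i, ∑ j, Gr i j * x i * y j

theorem cartan_F4 : cartanOf Cfsg.Lie.chevF4 4 = ![![2, -1, 0, 0], ![-1, 2, -2, 0], ![0, -1, 2, -1], ![0, 0, -1, 2]] := by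
  decide +kernel

theorem bf_refl (i : Fin 4) (x y : Fin 4 → ℤ) :
    Bf (refl (cartanOf Cfsg.Lie.chevF4 4) i x) (refl (cartanOf Cfsg.Lie.chevF4 4) i y) = Bf x y := by
  rw [cartan_F4]
  simp only [Bf, Gr, refl_apply, pairing, Fin.sum_univ_four, Pi.sub_apply]
  fin_cases i <;> simp <;> ring

theorem bf_single (i j : Fin 4) : Bf (Pi.single i 1) (Pi.single j 1) = Gr i j := by
  revert i j
  unfold Bf
  decide +kernel

section

variable {W : Type*} [Group W] {M : CoxeterMatrix (Fin 4)} (cs : CoxeterSystem M W)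
  (h : IsCartan M (cartanOf Cfsg.Lie.chevF4 4))

theorem bf_rep (w : W) (x y : Fin 4 → ℤ) : Bf (rep cs h w x) (rep cs h w y) = Bf x y := by
  obtain ⟨ω, rfl⟩ := cs.wordProd_surjective w
  induction ω with
  | nil => rw [CoxeterSystem.wordProd_nil, map_one]; rfl
  | cons i ω ih =>
    rw [CoxeterSystem.wordProd_cons, map_mul, rep_simple]
    show Bf (refl _ i _) (refl _ i _) = _
    rw [bf_refl, ih]

/-- the pair is a root with its image under the form -/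
def Good (a : List ℤ × List ℤ) : Prop :=
  a.1.length = 4 ∧ a.2.length = 4 ∧ ∀ j, toFn 4 a.2 j = ∑ i, Gr i j * toFn 4 a.1 i

instance (a : List ℤ × List ℤ) : Decidable (Good a) := by unfold Good; infer_instance

theorem good_L : ∀ a ∈ RL, Good a ∧ dot a.2 a.1 = 4 := by decide +kernel

theorem good_S : ∀ a ∈ RS, Good a ∧ dot a.2 a.1 = 2 := by decide +kernel

theorem roots_mem : ∀ s < 48, ∃ a ∈ RL ++ RS, toFn 4 a.1 = Cfsg.Agent.Nodes.RGDChev.vec Cfsg.Lie.chevF4 4 s := by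
  decide +kernel

theorem nroots_F4 : Cfsg.Lie.chevF4.nroots = 48 := by decide +kernel

theorem Good.bf {a : List ℤ × List ℤ} (ha : Good a) {b : List ℤ} (hb : b.length = 4) :
    Bf (toFn 4 a.1) (toFn 4 b) = dot a.2 b := by
  rw [dot_eq _ _ ha.2.1 hb, Bf, Finset.sum_comm]
  refine Finset.sum_congr rfl fun j _ => ?_
  rw [ha.2.2 j, Finset.sum_mul]

theorem exists_list {a : Fin 4 → ℤ} (ha : ∃ s < 48, Cfsg.Agent.Nodes.RGDChev.vec Cfsg.Lie.chevF4 4 s = a) :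
    (∃ p ∈ RL, toFn 4 p.1 = a ∧ Bf a a = 4) ∨ (∃ p ∈ RS, toFn 4 p.1 = a ∧ Bf a a = 2) := by
  obtain ⟨s, hs, rfl⟩ := ha
  obtain ⟨p, hp, e⟩ := roots_mem s hs
  rw [List.mem_append] at hp
  rcases hp with hp | hp
  · refine Or.inl ⟨p, hp, e, ?_⟩
    obtain ⟨h1, h2⟩ := good_L p hp
    rw [← e, h1.bf h1.1, h2]
  · refine Or.inr ⟨p, hp, e, ?_⟩
    obtain ⟨h1, h2⟩ := good_S p hp
    rw [← e, h1.bf h1.1, h2]

/-- **The characteristic polynomials of the elements of the Weyl group of type F4.** -/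
theorem charpoly_F4 (hr : ∀ i : Fin 4, ∀ w : W, ∃ s < 48, Cfsg.Agent.Nodes.RGDChev.vec Cfsg.Lie.chevF4 4 s =
    rep cs h w (Pi.single i 1)) (w : W) :
    ∃ e ∈ polys, ∀ x : ℤ, LinearMap.det (rep cs h w - x • (1 : Module.End ℤ (Fin 4 → ℤ))) = evp e x := by
  have key : ∀ i j : Fin 4, Bf (rep cs h w (Pi.single i 1)) (rep cs h w (Pi.single j 1)) = Gr i j := fun i j => by
    rw [bf_rep, bf_single]
  have hshort : ∀ i : Fin 4, Gr i i = 2 → ∃ p ∈ RS, toFn 4 p.1 = rep cs h w (Pi.single i 1) := by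
    intro i hi
    rcases exists_list (hr i w) with ⟨p, -, -, h2⟩ | ⟨p, hp, h1, -⟩
    · rw [key i i, hi] at h2
      omega
    · exact ⟨p, hp, h1⟩
  have hlong : ∀ i : Fin 4, Gr i i = 4 → ∃ p ∈ RL, toFn 4 p.1 = rep cs h w (Pi.single i 1) := by
    intro i hi
    rcases exists_list (hr i w) with ⟨p, hp, h1, -⟩ | ⟨p, -, -, h2⟩
    · exact ⟨p, hp, h1⟩
    · rw [key i i, hi] at h2
      omega
  obtain ⟨a, ha, ea⟩ := hshort 0 (by decide)
  obtain ⟨b, hb, eb⟩ := hshort 1 (by decide)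
  obtain ⟨c, hc, ec⟩ := hlong 2 (by decide)
  obtain ⟨d, hd, ed⟩ := hlong 3 (by decide)
  have ga := (good_S a ha).1
  have gb := (good_S b hb).1
  have gc := (good_L c hc).1
  have gd := (good_L d hd).1
  refine ⟨pol a.1 b.1 c.1 d.1, chk a ha b hb ?_ c hc ?_ ?_ d hd ?_ ?_ ?_, fun x => ?_⟩
  · rw [← ga.bf gb.1, ea, eb, key]; decide
  · rw [← gb.bf gc.1, eb, ec, key]; decide
  · rw [← ga.bf gc.1, ea, ec, key]; decide
  · rw [← gc.bf gd.1, ec, ed, key]; decide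
  · rw [← gb.bf gd.1, eb, ed, key]; decide
  · rw [← ga.bf gd.1, ea, ed, key]; decide
  · exact det_pol ga.1 gb.1 gc.1 gd.1 ea.symm eb.symm ec.symm ed.symm x

/-- the characteristic polynomial of a given product of reflections -/
theorem det_word (L : List (Fin 4)) {e : List ℤ} (he : pol (ac alF4 L (bas 4 0)) (ac alF4 L (bas 4 1))
    (ac alF4 L (bas 4 2)) (ac alF4 L (bas 4 3)) = e) (x : ℤ) :
    LinearMap.det (rep cs h (cs.wordProd L) - x • (1 : Module.End ℤ (Fin 4 → ℤ))) = evp e x := by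
  have hlen : ∀ i, (ac alF4 L (bas 4 i)).length = 4 := fun i => by rw [length_ac, length_bas]
  have hcol : ∀ i : Fin 4, rep cs h (cs.wordProd L) (Pi.single i 1) = toFn 4 (ac alF4 L (bas 4 i)) := fun i => by
    rw [toFn_ac cs h lists_F4 L _ (length_bas i.1), toFn_bas]
  rw [← he]
  exact det_pol (hlen 0) (hlen 1) (hlen 2) (hlen 3) (hcol 0) (hcol 1) (hcol 2) (hcol 3) x

end

end Cfsg.Agent.H130.F4Poly
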