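import Cfsg.Agent.H130.TorOrd
import Cfsg.Agent.H986.EqD.CycL
import Cfsg.Agent.H130.F4Poly
import Cfsg.Agent.S1062
import Cfsg.Agent.S1092

/-!
# The prime graph of F₄(2^n) (helper130)
-/

set_option autoImplicit false

namespace Cfsg.Agent.H130.F4Graph

open CoxeterSystem Polynomial Cfsg.Lie Cfsg.Agent.ChevalleyStructure.CoxeterGeom
  Cfsg.Agent.ChevalleyStructure.CoxeterGeomTypes
open Cfsg.Agent.Nodes.RGDChev Cfsg.Agent.Tits.Roots Cfsg.Agent.BpExc.FamUntw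
open Cfsg.Agent.H130.PolyL Cfsg.Agent.H130.WeylCk Cfsg.Agent.H130.WeylTab Cfsg.Agent.H130.F4Poly Cfsg.Agent.H130.TorOrd

universe u

/-! ### cyclotomic values -/

theorem dvd_eval_iff {r q j : ℕ} : (r : ℤ) ∣ (cyclotomic j ℤ).eval (q : ℤ) ↔
    (cyclotomic j (ZMod r)).eval (q : ZMod r) = 0 := by
  rw [← CharP.intCast_eq_zero_iff (ZMod r) r, ← map_cyclotomic_int j (ZMod r), eval_map]
  have h : (((cyclotomic j ℤ).eval (q : ℤ) : ℤ) : ZMod r) = eval₂ (Int.castRingHom (ZMod r)) (q : ZMod r)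
      (cyclotomic j ℤ) := by
    have h1 := hom_eval₂ (cyclotomic j ℤ) (RingHom.id ℤ) (Int.castRingHom (ZMod r)) (q : ℤ)
    rw [RingHomCompTriple.comp_eq] at h1
    rw [eval, ← eq_intCast (Int.castRingHom (ZMod r)), h1, eq_intCast, Int.cast_natCast]
  rw [h]

theorem orderOf_eq_of_dvd {r q j : ℕ} [Fact r.Prime] (hrj : ¬ r ∣ j)
    (h : (r : ℤ) ∣ (cyclotomic j ℤ).eval (q : ℤ)) : orderOf (q : ZMod r) = j := by
  have : NeZero ((j : ℕ) : ZMod r) := ⟨fun h0 => hrj ((ZMod.natCast_eq_zero_iff j r).1 h0)⟩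
  exact (isRoot_cyclotomic_iff.1 (dvd_eval_iff.1 h)).eq_orderOf.symm

theorem dvd_of_orderOf {r q : ℕ} [Fact r.Prime] (hrq : ¬ r ∣ q) :
    (r : ℤ) ∣ (cyclotomic (orderOf (q : ZMod r)) ℤ).eval (q : ℤ) :=
  dvd_eval_iff.2 ((IsPrimitiveRoot.orderOf _).isRoot_cyclotomic (Homo.orderOf_pos_zmod hrq))

/-! ### the list of characteristic polynomials -/

/-- the polynomials with their factors -/
def facs : List (List ℤ × List ℕ) := [([-4, 6, -4, 1], [2, 2, 2, 2]), ([-2, 0, 2, -1], [1, 2, 2, 2]),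
  ([-2, 2, -2, 1], [2, 2, 4]), ([-2, 3, -2, 1], [3, 3]), ([-1, 0, -1, 1], [2, 2, 6]), ([-1, 0, 1, -1], [1, 2, 3]),
  ([0, -2, 0, 1], [1, 1, 2, 2]), ([0, -1, 0, 1], [12]), ([0, 0, 0, -1], [1, 2, 4]), ([0, 0, 0, 1], [8]),
  ([0, 2, 0, 1], [4, 4]), ([1, 0, -1, -1], [1, 2, 6]), ([1, 0, 1, 1], [1, 1, 3]), ([2, 0, -2, -1], [1, 1, 1, 2]),
  ([2, 2, 2, 1], [1, 1, 4]), ([2, 3, 2, 1], [6, 6]), ([4, 6, 4, 1], [1, 1, 1, 1])]

theorem polys_sub : ∀ e ∈ polys, ∃ J, (e, J) ∈ facs := by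
  intro e he
  have h : polys = facs.map Prod.fst := by decide
  rw [h, List.mem_map] at he
  obtain ⟨p, hp, rfl⟩ := he
  exact ⟨p.2, hp⟩

theorem facs_idx : ∀ p ∈ facs, ∀ j ∈ p.2, j ∈ idx := by decide

theorem facs_eq : ∀ p ∈ facs, eqL (prodL p.2) [p.1.getD 3 0, -p.1.getD 2 0, p.1.getD 1 0, -p.1.getD 0 0, 1] = true := by
  decide +kernel

theorem evp_eq {e : List ℤ} {J : List ℕ} (h : (e, J) ∈ facs) (x : ℤ) :
    evp e x = (J.map fun j => (cyclotomic j ℤ).eval x).prod := by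
  have h1 := congrArg (eval x) (ofL_eq_of_eqL (facs_eq _ h))
  rw [ofL_prodL, eval_list_prod, List.map_map] at h1
  have h2 : (J.map ((eval x) ∘ fun i => ofL (cycL i))) = J.map fun j => (cyclotomic j ℤ).eval x := by
    refine List.map_congr_left fun j hj => ?_
    rw [Function.comp_apply, cyclotomic_eq j (facs_idx _ h j hj)]
  rw [h2] at h1
  rw [h1]
  simp only [ofL, evp, eval_add, eval_mul, eval_C, eval_X, eval_zero]
  ring

/-! ### the set-up -/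

theorem hp : IsType chevF4 4 CoxeterMatrix.F₄ := by simp

theorem cardW : Nat.card CoxeterMatrix.F₄.Group = 1152 :=
  Cfsg.Agent.S1092.result (⟨4, CoxeterMatrix.F₄⟩, 1152) (by simp)

instance finW : Finite CoxeterMatrix.F₄.Group := Nat.finite_of_card_ne_zero (by rw [cardW]; norm_num)

abbrev cs := CoxeterMatrix.F₄.toCoxeterSystem

section

variable {F : Type u} [Field F] [Fintype F]

theorem roots_ok (i : Fin 4) (w : CoxeterMatrix.F₄.Group) :
    ∃ s < 48, vec chevF4 4 s = rep cs hp.isCartan w (Pi.single i 1) := by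
  have h := (isRoot_iff hp cs _).1 ((isRoot_sr cs hp.isCartan i).act w)
  rw [nroots_F4] at h
  exact h

/-- **the orders of elements** -/
theorem exists_facs {x : ↥(chevF4.group F)} (hx : (orderOf x).Coprime (Fintype.card F)) :
    ∃ p ∈ facs, (orderOf x : ℤ) ∣ (p.2.map fun j => (cyclotomic j ℤ).eval (Fintype.card F : ℤ)).prod := by
  rw [← Nat.card_eq_fintype_card] at hx ⊢
  obtain ⟨w, hw⟩ := dvd_det hp cs hx
  obtain ⟨e, he, h⟩ := charpoly_F4 cs hp.isCartan roots_ok w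
  obtain ⟨J, hJ⟩ := polys_sub e he
  refine ⟨_, hJ, ?_⟩
  rw [h, evp_eq hJ] at hw
  exact hw

/-- **existence of elements** -/
theorem exists_of_word {N : ℕ} (hN : Squarefree N) (L : List (Fin 4)) {e : List ℤ} {J : List ℕ} (hJ : (e, J) ∈ facs)
    (he : pol (ac alF4 L (bas 4 0)) (ac alF4 L (bas 4 1)) (ac alF4 L (bas 4 2)) (ac alF4 L (bas 4 3)) = e)
    (h : (N : ℤ) ∣ (J.map fun j => (cyclotomic j ℤ).eval (Fintype.card F : ℤ)).prod) :
    ∃ x : ↥(chevF4.group F), orderOf x = N := by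
  refine exists_orderOf hp cs BpExc.FamInst.inv_F4 one_ne_zero (cs.wordProd L) hN (Nat.coprime_one_right N) ?_
  rw [det_word cs hp.isCartan L he, evp_eq hJ, Nat.card_eq_fintype_card]
  exact h

/-- the words used -/
def words : List (List (Fin 4) × List ℤ × List ℕ) :=
  [([0, 2, 3], [-1, 0, 1, -1], [1, 2, 3]), ([1, 2, 1, 2, 3], [0, 0, 0, -1], [1, 2, 4]),
   ([1, 2, 3], [1, 0, -1, -1], [1, 2, 6]), ([0, 1, 2, 1, 2, 3], [0, 0, 0, 1], [8]), ([0, 1, 2, 3], [0, -1, 0, 1], [12])]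

theorem words_ok : ∀ p ∈ words, p.2 ∈ facs ∧ pol (ac alF4 p.1 (bas 4 0)) (ac alF4 p.1 (bas 4 1))
    (ac alF4 p.1 (bas 4 2)) (ac alF4 p.1 (bas 4 3)) = p.2.1 := by decide +kernel

/-! ### the arithmetic of the pairs -/

/-- the pairs of orders of adjacent odd primes -/
def Adj (k l : ℕ) : Prop :=
  k = l ∨ (k ∈ [1, 2, 3, 4, 6] ∧ l ∈ [1, 2, 3, 4, 6] ∧ (k, l) ∉ [(3, 4), (4, 3), (3, 6), (6, 3), (4, 6), (6, 4)])

instance (k l : ℕ) : Decidable (Adj k l) := by unfold Adj; infer_instance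

/-- the orders of `q` modulo an odd prime divisor of `Φ_j(q)` -/
def alt : ℕ → List ℕ
  | 3 => [3, 1, 2]
  | 6 => [6, 1, 2]
  | j => [j]

theorem adj_of_facs : ∀ p ∈ facs, ∀ j ∈ p.2, ∀ j' ∈ p.2, ∀ k ∈ alt j, ∀ l ∈ alt j', Adj k l := by decide

theorem words_of_adj : ∀ k ∈ [1, 2, 3, 4, 6, 8, 12], ∀ l ∈ [1, 2, 3, 4, 6, 8, 12], Adj k l →
    ∃ p ∈ words, k ∈ p.2.2 ∧ l ∈ p.2.2 := by decide

theorem idx_of_facs : ∀ p ∈ facs, ∀ j ∈ p.2, j ∈ [1, 2, 3, 4, 6, 8, 12] := by decide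

theorem adj_iff : ∀ k ∈ [1, 2, 3, 4, 6, 8, 12], ∀ l ∈ [1, 2, 3, 4, 6, 8, 12], ¬ Adj k l ↔
    ((k < l ∧ (l ∈ ({8, 12} : Finset ℕ) ∨ (l = 6 ∧ k ∈ ({3, 4} : Finset ℕ)) ∨ (l = 4 ∧ k = 3))) ∨
      (l < k ∧ (k ∈ ({8, 12} : Finset ℕ) ∨ (k = 6 ∧ l ∈ ({3, 4} : Finset ℕ)) ∨ (k = 4 ∧ l = 3)))) := by decide

theorem three_sq : ∀ x : ZMod 3, x ≠ 0 → x ^ 2 = 1 := by decide

theorem three_tw : ∀ x : ZMod 3, x ≠ 0 → x ^ 4 - x ^ 2 + 1 = 0 → False := by decide

/-- the order of `q` modulo an odd prime divisor of `Φ_j(q)` -/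
theorem mem_alt {r q j : ℕ} (hr : r.Prime) (hr2 : r ≠ 2) (hrq : ¬ r ∣ q) (hj : j ∈ [1, 2, 3, 4, 6, 8, 12])
    (h : (r : ℤ) ∣ (cyclotomic j ℤ).eval (q : ℤ)) : orderOf (q : ZMod r) ∈ alt j := by
  have : Fact r.Prime := ⟨hr⟩
  have hr3 : 3 ≤ r := by
    have := hr.two_le
    omega
  by_cases hrj : r ∣ j
  · have hr3' : r = 3 := by
      have h1 : ∀ j ∈ [1, 2, 3, 4, 6, 8, 12], ∀ r ≤ 12, 3 ≤ r → r ∣ j → r.Prime → r = 3 := by decide
      have h2 : j ≤ 12 := by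
        have : ∀ j ∈ [1, 2, 3, 4, 6, 8, 12], j ≤ 12 := by decide
        exact this j hj
      have h3 : 0 < j := by
        have : ∀ j ∈ [1, 2, 3, 4, 6, 8, 12], 0 < j := by decide
        exact this j hj
      exact h1 j hj r ((Nat.le_of_dvd h3 hrj).trans h2) hr3 hrj hr
    subst hr3'
    have hq : (q : ZMod 3) ≠ 0 := fun h0 => hrq ((ZMod.natCast_eq_zero_iff q 3).1 h0)
    have hord : orderOf (q : ZMod 3) = 1 ∨ orderOf (q : ZMod 3) = 2 := by
      have h4 : (q : ZMod 3) ^ 2 = 1 := three_sq _ hq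
      have h5 := orderOf_dvd_of_pow_eq_one h4
      exact (Nat.dvd_prime Nat.prime_two).1 h5
    simp only [List.mem_cons, List.not_mem_nil, or_false] at hj
    rcases hj with rfl | rfl | rfl | rfl | rfl | rfl | rfl
    · omega
    · omega
    · simp only [alt, List.mem_cons]; omega
    · omega
    · simp only [alt, List.mem_cons]; omega
    · omega
    · exfalso
      have h6 : (cyclotomic 12 ℤ).eval (q : ℤ) = (q : ℤ) ^ 4 - (q : ℤ) ^ 2 + 1 := by
        rw [cyclotomic_eq 12 (by decide)]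
        simp only [cycL, ofL, eval_add, eval_mul, eval_C, eval_X, eval_zero]
        ring
      rw [h6] at h
      have h7 : ((((q : ℤ) ^ 4 - (q : ℤ) ^ 2 + 1 : ℤ)) : ZMod 3) = 0 := (CharP.intCast_eq_zero_iff (ZMod 3) 3 _).2 h
      push_cast at h7
      exact three_tw _ hq h7
  · rw [orderOf_eq_of_dvd hrj h]
    simp only [List.mem_cons, List.not_mem_nil, or_false] at hj
    rcases hj with rfl | rfl | rfl | rfl | rfl | rfl | rfl <;> simp [alt]

theorem dvd_prod_exists {r : ℕ} (hr : r.Prime) {J : List ℕ} {f : ℕ → ℤ} (h : (r : ℤ) ∣ (J.map f).prod) :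
    ∃ j ∈ J, (r : ℤ) ∣ f j := by
  obtain ⟨a, ha, h1⟩ := (Nat.prime_iff_prime_int.1 hr).dvd_prod_iff.1 h
  obtain ⟨j, hj, rfl⟩ := List.mem_map.1 ha
  exact ⟨j, hj, h1⟩

/-- **Odd primes.** -/
theorem odd_iff {r s : ℕ} (hr : r.Prime) (hs : s.Prime) (hrs : r ≠ s) (hr2 : r ≠ 2) (hs2 : s ≠ 2)
    (hrq : ¬ r ∣ Fintype.card F) (hsq : ¬ s ∣ Fintype.card F)
    (her : orderOf ((Fintype.card F : ℕ) : ZMod r) ∈ [1, 2, 3, 4, 6, 8, 12])
    (hes : orderOf ((Fintype.card F : ℕ) : ZMod s) ∈ [1, 2, 3, 4, 6, 8, 12]) :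
    (∃ x : ↥(chevF4.group F), orderOf x = r * s) ↔
      Adj (orderOf ((Fintype.card F : ℕ) : ZMod r)) (orderOf ((Fintype.card F : ℕ) : ZMod s)) := by
  have : Fact r.Prime := ⟨hr⟩
  have : Fact s.Prime := ⟨hs⟩
  constructor
  · rintro ⟨x, hx⟩
    have hcop : (orderOf x).Coprime (Fintype.card F) := by
      rw [hx]
      exact Nat.Coprime.mul_left ((Nat.Prime.coprime_iff_not_dvd hr).2 hrq) ((Nat.Prime.coprime_iff_not_dvd hs).2 hsq)
    obtain ⟨p, hp, h⟩ := exists_facs hcop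
    rw [hx, Nat.cast_mul] at h
    obtain ⟨j, hj, h1⟩ := dvd_prod_exists hr ((Dvd.intro _ rfl).trans h)
    obtain ⟨j', hj', h2⟩ := dvd_prod_exists hs ((Dvd.intro_left _ rfl).trans h)
    exact adj_of_facs p hp j hj j' hj' _ (mem_alt hr hr2 hrq (idx_of_facs p hp j hj) h1) _
      (mem_alt hs hs2 hsq (idx_of_facs p hp j' hj') h2)
  · intro h
    obtain ⟨p, hp, h1, h2⟩ := words_of_adj _ her _ hes h
    obtain ⟨hf, hpol⟩ := words_ok p hp
    have hcop : r.Coprime s := (Nat.coprime_primes hr hs).2 hrs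
    refine exists_of_word ?_ p.1 hf hpol ?_
    · exact (Nat.squarefree_mul hcop).2 ⟨hr.prime.squarefree, hs.prime.squarefree⟩
    · rw [Nat.cast_mul]
      refine IsCoprime.mul_dvd (Nat.isCoprime_iff_coprime.2 hcop) ?_ ?_
      · exact (dvd_of_orderOf hrq).trans (List.dvd_prod (List.mem_map.2 ⟨_, h1, rfl⟩))
      · exact (dvd_of_orderOf hsq).trans (List.dvd_prod (List.mem_map.2 ⟨_, h2, rfl⟩))

/-! ### the prime two -/

/-- the highest root -/
def rho : Fin 4 → ℤ := ![2, 4, 3, 2]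

theorem isRoot_rho : IsRoot cs hp.isCartan rho := by
  rw [isRoot_iff hp cs]
  exact ⟨47, by rw [nroots_F4]; norm_num, by decide +kernel⟩

/-- the words fixing the highest root -/
def words2 : List (List (Fin 4) × List ℤ × List ℕ) :=
  [([0, 1], [1, 0, 1, 1], [1, 1, 3]), ([1, 2], [2, 2, 2, 1], [1, 1, 4]), ([0, 1, 2], [1, 0, -1, -1], [1, 2, 6])]

theorem words2_ok : ∀ p ∈ words2, p.2 ∈ facs ∧ pol (ac alF4 p.1 (bas 4 0)) (ac alF4 p.1 (bas 4 1))
    (ac alF4 p.1 (bas 4 2)) (ac alF4 p.1 (bas 4 3)) = p.2.1 ∧ ac alF4 p.1 [2, 4, 3, 2] = [2, 4, 3, 2] := by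
  decide +kernel

theorem words2_of : ∀ k ∈ [2, 3, 4, 6], ∃ p ∈ words2, k ∈ p.2.2 := by decide

theorem rho_eq : toFn 4 [2, 4, 3, 2] = rho := by decide

/-- **Elements of order `2 s`.** -/
theorem two_adj {n : ℕ} (hF : Fintype.card F = 2 ^ n) {s : ℕ} (hs : s.Prime)
    (hsq : ¬ s ∣ Fintype.card F)
    (hes : orderOf ((Fintype.card F : ℕ) : ZMod s) ∈ [1, 2, 3, 4, 6]) :
    ∃ x : ↥(chevF4.group F), orderOf x = 2 * s := by
  have : Fact s.Prime := ⟨hs⟩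
  have : Fact (Nat.Prime 2) := ⟨Nat.prime_two⟩
  have hchar : CharP F 2 := by
    obtain ⟨p, hp⟩ := CharP.exists F
    obtain ⟨m, hpp, hm⟩ := FiniteField.card F p
    have h1 : p ∣ 2 ^ n := by
      rw [← hF, hm]
      exact dvd_pow_self _ m.ne_zero
    have h2 : p = 2 := (Nat.prime_dvd_prime_iff_eq hpp Nat.prime_two).1 (hpp.dvd_of_dvd_pow h1)
    rw [← h2]; exact hp
  have hiff : (s : ℤ) ∣ (Nat.card F : ℤ) - 1 ↔ orderOf ((Fintype.card F : ℕ) : ZMod s) = 1 := by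
    rw [orderOf_eq_one_iff, Nat.card_eq_fintype_card, ← CharP.intCast_eq_zero_iff (ZMod s) s, Int.cast_sub,
      Int.cast_natCast, Int.cast_one, sub_eq_zero]
  by_cases h1 : orderOf ((Fintype.card F : ℕ) : ZMod s) = 1
  · refine exists_orderOf_char_one hp cs BpExc.FamInst.inv_F4 one_ne_zero hchar hs (Nat.coprime_one_right _)
      (hiff.2 h1) isRoot_rho (c := ![1, 0, 0, -1]) (i := 0) ?_ ?_
    · intro h2
      exact hs.one_lt.ne' (Nat.dvd_one.1 (Int.natCast_dvd_natCast.1 (by simpa using h2)))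
    · have : ∑ i, (![1, 0, 0, -1] : Fin 4 → ℤ) i * rho i = 0 := by decide
      rw [this]
      exact dvd_zero _
  · have h2 : orderOf ((Fintype.card F : ℕ) : ZMod s) ∈ [2, 3, 4, 6] := by
      simp only [List.mem_cons, List.not_mem_nil, or_false] at hes ⊢
      omega
    obtain ⟨p, hp', h3⟩ := words2_of _ h2
    obtain ⟨hf, hpol, hfix⟩ := words2_ok p hp'
    refine exists_orderOf_char hp cs BpExc.FamInst.inv_F4 one_ne_zero hchar (cs.wordProd p.1) hs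
      (Nat.coprime_one_right _) (fun h4 => h1 (hiff.1 h4)) ?_ isRoot_rho ?_
    · rw [det_word cs hp.isCartan p.1 hpol, evp_eq hf, Nat.card_eq_fintype_card]
      exact (dvd_of_orderOf hsq).trans (List.dvd_prod (List.mem_map.2 ⟨_, h3, rfl⟩))
    · rw [← rho_eq, ← toFn_ac cs hp.isCartan lists_F4 p.1 _ rfl, hfix]

/-- **No elements of order `2 s`.** -/
theorem two_not {n : ℕ} (hn : 1 ≤ n) (hF : Fintype.card F = 2 ^ n) {s : ℕ} (hs : s.Prime) 
    (hsq : ¬ s ∣ Fintype.card F)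
    (hes : orderOf ((Fintype.card F : ℕ) : ZMod s) ∈ [8, 12]) :
    ¬ ∃ x : ↥(chevF4.group F), orderOf x = 2 * s := by
  have : Fact s.Prime := ⟨hs⟩
  rintro ⟨x, hx⟩
  obtain ⟨m, hm⟩ : ∃ m, m = orderOf ((Fintype.card F : ℕ) : ZMod s) := ⟨_, rfl⟩
  rw [← hm] at hes
  have hms : m ∣ s - 1 := by rw [hm]; exact Homo.orderOf_dvd_sub_one hsq
  have hm8 : 8 ≤ m := by
    simp only [List.mem_cons, List.not_mem_nil, or_false] at hes
    omega
  have hs9 : 9 ≤ s := by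
    have h1 := Nat.le_of_dvd (by have := hs.two_le; omega) hms
    omega
  have hsW : ¬ s ∣ Nat.card CoxeterMatrix.F₄.Group := by
    rw [cardW]
    intro h1
    have h2 : s ∣ 2 ^ 7 * 3 ^ 2 := by norm_num; exact h1
    rcases (Nat.Prime.dvd_mul hs).1 h2 with h3 | h3
    · have := (Nat.prime_dvd_prime_iff_eq hs Nat.prime_two).1 (hs.dvd_of_dvd_pow h3)
      omega
    · have := (Nat.prime_dvd_prime_iff_eq hs Nat.prime_three).1 (hs.dvd_of_dvd_pow h3)
      omega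
  have hsm : ¬ s ∣ m := by
    intro h1
    have h2 := Nat.le_of_dvd (by omega) h1
    have h3 := Nat.le_of_dvd (by omega) hms
    omega
  have hx2 : orderOf (x ^ 2) = s := by
    rw [orderOf_pow' x two_ne_zero, hx, Nat.gcd_eq_right (Dvd.intro _ rfl), Nat.mul_div_cancel_left _ two_pos]
  have hl : m.totient = 4 := by
    simp only [List.mem_cons, List.not_mem_nil, or_false] at hes
    rcases hes with h | h <;> rw [h] <;> decide
  have hq : (s : ℤ) ∣ (cyclotomic m ℤ).eval ((Nat.card F : ℕ) : ℤ) := by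
    rw [Nat.card_eq_fintype_card, hm]
    exact dvd_of_orderOf hsq
  obtain ⟨-, h2, -⟩ := H378.Regular.centralizer_fin hp cs BpExc.FamInst.inv_F4 (x := x ^ 2) hs
    (by rw [Nat.card_eq_fintype_card]; exact hsq) hx2 hsW (m := m) (by omega) hl hsm hq
  · have hmem : x ∈ Subgroup.centralizer {x ^ 2} := by
      rw [Subgroup.mem_centralizer_singleton_iff]
      exact (Commute.refl x).pow_right 2
    have h3 : orderOf (⟨x, hmem⟩ : ↥(Subgroup.centralizer {x ^ 2})) = 2 * s := by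
      rw [← hx]
      exact (orderOf_injective (Subgroup.subtype _) Subtype.val_injective _).symm
    have h4 : 2 ∣ ((cyclotomic m ℤ).eval ((Nat.card F : ℕ) : ℤ)).natAbs := by
      rw [← h2]
      refine Dvd.dvd.trans ?_ (orderOf_dvd_natCard (⟨x, hmem⟩ : ↥(Subgroup.centralizer {x ^ 2})))
      rw [h3]
      exact Dvd.intro _ rfl
    have h5 : (2 : ℤ) ∣ (cyclotomic m ℤ).eval ((Nat.card F : ℕ) : ℤ) := by
      exact_mod_cast Int.natCast_dvd.2 h4
    rw [Nat.card_eq_fintype_card, hF] at h5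
    have h6 : (2 : ℤ) ∣ ((2 ^ n : ℕ) : ℤ) := by
      rw [Nat.cast_pow]
      exact dvd_pow_self _ (by omega)
    simp only [List.mem_cons, List.not_mem_nil, or_false] at hes
    rcases hes with rfl | rfl
    · have h7 : (cyclotomic 8 ℤ).eval ((2 ^ n : ℕ) : ℤ) = ((2 ^ n : ℕ) : ℤ) * ((2 ^ n : ℕ) : ℤ) ^ 3 + 1 := by
        rw [cyclotomic_eq 8 (by decide)]
        simp only [cycL, ofL, eval_add, eval_mul, eval_C, eval_X, eval_zero]
        ring
      rw [h7] at h5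
      have := (Int.dvd_add_right (Dvd.dvd.mul_right h6 _)).1 h5
      omega
    · have h7 : (cyclotomic 12 ℤ).eval ((2 ^ n : ℕ) : ℤ) = ((2 ^ n : ℕ) : ℤ) * (((2 ^ n : ℕ) : ℤ) ^ 3 -
          ((2 ^ n : ℕ) : ℤ)) + 1 := by
        rw [cyclotomic_eq 12 (by decide)]
        simp only [cycL, ofL, eval_add, eval_mul, eval_C, eval_X, eval_zero]
        ring
      rw [h7] at h5
      have := (Int.dvd_add_right (Dvd.dvd.mul_right h6 _)).1 h5
      omega

/-- the orders of `q` -/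
theorem order_mem {s : ℕ} (hs : s.Prime) (hsq : ¬ s ∣ Fintype.card F) (h : s ∣ Nat.card ↥(chevF4.group F)) :
    orderOf ((Fintype.card F : ℕ) : ZMod s) ∈ [1, 2, 3, 4, 6, 8, 12] := by
  have : Fact s.Prime := ⟨hs⟩
  rw [Cfsg.Agent.S1062.result rfl, hs.dvd_mul, hs.dvd_mul, hs.dvd_mul, hs.dvd_mul] at h
  have key : ∀ k, 0 < k → k ≤ 12 → (∀ j ≤ 12, j ∣ k → j ∈ [1, 2, 3, 4, 6, 8, 12]) →
      s ∣ Fintype.card F ^ k - 1 → orderOf ((Fintype.card F : ℕ) : ZMod s) ∈ [1, 2, 3, 4, 6, 8, 12] := by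
    intro k hk0 hk hk' h1
    have h2 := (Homo.dvd_pow_sub_one_iff hsq k).1 h1
    exact hk' _ ((Nat.le_of_dvd hk0 h2).trans hk) h2
  rcases h with (((h | h) | h) | h) | h
  · exact absurd (hs.dvd_of_dvd_pow h) hsq
  · exact key 2 (by norm_num) (by norm_num) (by decide) h
  · exact key 6 (by norm_num) (by norm_num) (by decide) h
  · exact key 8 (by norm_num) (by norm_num) (by decide) h
  · exact key 12 (by norm_num) (by norm_num) (by decide) h

end

end Cfsg.Agent.H130.F4Graph
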