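import Cfsg.Agent.H130.Homo

/-!
# The cokernel of `w - q` on a lattice contains `(Z_m)^a` (helper130)

`w ^ e = 1` on `ℤ^l`, `e` the order of `q` modulo the prime `r`, `m` the `r`-part of `Φ_e(q)`; if there are `a`
vectors `x_i` killed by `Φ_e(w)` such that the `w^j x_i` (`j < φ(e)`) are independent modulo `r` (witnessed by
functionals `y_i`), then `(Z_m)^a` embeds in `ℤ^l / (w - q) ℤ^l`.
-/

set_option autoImplicit false

namespace Cfsg.Agent.H130.Cok

open Cfsg.Agent.H130.Homo Polynomial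

section Mod

/-- a homomorphism from `ℤ^a` with kernel `m ℤ^a` gives an embedding of `(ℤ/m)^a` -/
theorem exists_hom_of_ker {C : Type*} [AddCommGroup C] {a m : ℕ} (g : (Fin a → ℤ) →+ C)
    (h1 : ∀ t : Fin a → ℤ, g (fun i => (m : ℤ) * t i) = 0) (h2 : ∀ t : Fin a → ℤ, g t = 0 → ∀ i, (m : ℤ) ∣ t i) :
    ∃ f : (Fin a → Multiplicative (ZMod m)) →* Multiplicative C, Function.Injective f := by
  classical
  have hz : ∀ i, (g.comp (AddMonoidHom.single (fun _ : Fin a => ℤ) i)) (m : ℤ) = 0 := by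
    intro i
    rw [AddMonoidHom.comp_apply]
    convert h1 (Pi.single i 1) using 2
    funext j
    by_cases hj : j = i
    · subst hj
      simp
    · simp [Pi.single_eq_of_ne hj]
  let gi : Fin a → (ZMod m →+ C) := fun i => ZMod.lift m ⟨g.comp (AddMonoidHom.single (fun _ : Fin a => ℤ) i), hz i⟩
  let G : (Fin a → ZMod m) →+ C := ∑ i, (gi i).comp (Pi.evalAddMonoidHom (fun _ : Fin a => ZMod m) i)
  have hG : ∀ t : Fin a → ℤ, G (fun i => (t i : ZMod m)) = g t := by
    intro t
    have e1 : G (fun i => (t i : ZMod m)) = ∑ i, g (Pi.single i (t i)) := by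
      show (∑ i, (gi i).comp (Pi.evalAddMonoidHom (fun _ : Fin a => ZMod m) i)) (fun i => (t i : ZMod m)) = _
      rw [AddMonoidHom.finsetSum_apply]
      apply Finset.sum_congr rfl
      intro i _
      show gi i ((t i : ℤ) : ZMod m) = _
      rw [ZMod.lift_coe]
      rfl
    rw [e1, ← map_sum, Finset.univ_sum_single]
  have hinj : Function.Injective G := by
    rw [injective_iff_map_eq_zero]
    intro z hz0
    obtain ⟨t, ht⟩ : ∃ t : Fin a → ℤ, (fun i => (t i : ZMod m)) = z := by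
      refine ⟨fun i => Classical.choose (ZMod.intCast_surjective (z i)), ?_⟩
      funext i
      exact Classical.choose_spec (ZMod.intCast_surjective (z i))
    rw [← ht, hG] at hz0
    have := h2 t hz0
    rw [← ht]
    funext i
    exact (ZMod.intCast_zmod_eq_zero_iff_dvd (t i) m).2 (this i)
  refine ⟨{ toFun := fun z => Multiplicative.ofAdd (G (fun i => Multiplicative.toAdd (z i)))
            map_one' := ?_
            map_mul' := ?_ }, ?_⟩
  · show Multiplicative.ofAdd (G 0) = 1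
    rw [map_zero]
    rfl
  · intro z z'
    show Multiplicative.ofAdd (G ((fun i => Multiplicative.toAdd (z i)) + (fun i => Multiplicative.toAdd (z' i)))) = _
    rw [map_add]
    rfl
  · intro z z' h
    have h3 : (fun i => Multiplicative.toAdd (z i)) = (fun i => Multiplicative.toAdd (z' i)) := hinj h
    funext i
    exact congrFun h3 i

end Mod

section Main

variable {l a : ℕ} {r q : ℕ} [hr : Fact r.Prime]

/-- `S(w) = ∑ w^j q^(e-1-j)` -/
theorem geom (w : Module.End ℤ (Fin l → ℤ)) {e : ℕ} (hw : w ^ e = 1) :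
    (w - ((q : ℕ) : ℤ) • (1 : Module.End ℤ (Fin l → ℤ))) *
      (∑ j ∈ Finset.range e, w ^ j * (((q : ℕ) : ℤ) • (1 : Module.End ℤ (Fin l → ℤ))) ^ (e - 1 - j)) =
      (1 - ((q : ℕ) : ℤ) ^ e) • (1 : Module.End ℤ (Fin l → ℤ)) := by
  have hcomm : Commute w (((q : ℕ) : ℤ) • (1 : Module.End ℤ (Fin l → ℤ))) :=
    (Commute.one_right w).smul_right _
  rw [hcomm.mul_geom_sum₂, hw, _root_.smul_pow, one_pow, sub_smul, one_smul]

/-- the functional `y` on `Q(w) x`, `Q = Φ_e / (X - q)` -/
theorem functional {w : Module.End ℤ (Fin l → ℤ)} {P : ℤ[X]} (hP : P.Monic) (hPd : 0 < P.natDegree) (s : ℤ)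
    (y : (Fin l → ℤ) →ₗ[ℤ] ℤ) (x : Fin l → ℤ) (c : ℤ)
    (hy : ∀ j < P.natDegree, y ((w ^ j) x) = if j + 1 = P.natDegree then c else 0) :
    y (aeval w (P /ₘ (X - C s)) x) = c := by
  have hd : (P /ₘ (X - C s)).natDegree = P.natDegree - 1 := by
    rw [natDegree_divByMonic _ (monic_X_sub_C s), natDegree_X_sub_C]
  have hlc : (P /ₘ (X - C s)).coeff (P.natDegree - 1) = 1 := by
    rw [← hd]
    have := leadingCoeff_divByMonic_of_monic (p := P) (monic_X_sub_C s) (by
      rw [degree_X_sub_C]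
      rw [Polynomial.degree_eq_natDegree hP.ne_zero]
      exact_mod_cast hPd)
    rw [leadingCoeff, hP.leadingCoeff] at this
    exact this
  rw [aeval_eq_sum_range, hd, LinearMap.sum_apply, map_sum]
  have hsucc : P.natDegree - 1 + 1 = P.natDegree := by omega
  rw [Finset.sum_eq_single (P.natDegree - 1)]
  · rw [hlc, one_smul, hy _ (by omega), if_pos hsucc]
  · intro j hj hne
    have := Finset.mem_range.1 hj
    rw [LinearMap.smul_apply, map_smul, hy j (by omega), if_neg (by omega), smul_zero]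
  · intro h
    exact absurd (Finset.mem_range.2 (by omega)) h

/-- **`(Z_m)^a` embeds in the cokernel of `w - q`.** -/
theorem exists_hom_cok (hrq : ¬ r ∣ q) (hq : 1 < q) (w : Module.End ℤ (Fin l → ℤ))
    (hw : w ^ orderOf (q : ZMod r) = 1) (x : Fin a → Fin l → ℤ) (y : Fin a → ((Fin l → ℤ) →ₗ[ℤ] ℤ)) (c : ℤ)
    (hc : ¬ (r : ℤ) ∣ c)
    (hx : ∀ i, aeval w (cyclotomic (orderOf (q : ZMod r)) ℤ) (x i) = 0)
    (hy : ∀ i i', ∀ j < (cyclotomic (orderOf (q : ZMod r)) ℤ).natDegree, y i ((w ^ j) (x i')) =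
      if i = i' ∧ j + 1 = (cyclotomic (orderOf (q : ZMod r)) ℤ).natDegree then c else 0) :
    ∃ f : (Fin a → Multiplicative (ZMod (r ^ val r q))) →* Multiplicative ((Fin l → ℤ) ⧸
      LinearMap.range (w - ((q : ℕ) : ℤ) • (1 : Module.End ℤ (Fin l → ℤ)))), Function.Injective f := by
  classical
  set e := orderOf (q : ZMod r) with he
  have he0 : 0 < e := orderOf_pos_zmod hrq
  have hre : ¬ r ∣ e := (Nat.Prime.coprime_iff_not_dvd hr.out).1 (coprime_orderOf hrq)
  set P := cyclotomic e ℤ with hPdef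
  have hPm : P.Monic := cyclotomic.monic e ℤ
  have hPd : 0 < P.natDegree := by
    rw [hPdef, natDegree_cyclotomic]
    exact Nat.totient_pos.2 he0
  set m := r ^ val r q with hm
  have hm0 : (m : ℤ) ≠ 0 := by
    rw [hm]
    exact_mod_cast pow_ne_zero _ hr.out.ne_zero
  -- `N = q ^ e - 1 = m * N'`
  have hval : val r q = padicValNat r (q ^ e - 1) := (val_pow_orderOf hrq hq).symm
  have hN1 : 1 ≤ q ^ e := Nat.one_le_pow _ _ (by omega)
  have hN0 : q ^ e - 1 ≠ 0 := by
    have : 1 < q ^ e := Nat.one_lt_pow he0.ne' hq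
    omega
  obtain ⟨N', hN'⟩ : m ∣ q ^ e - 1 := by rw [hm, hval]; exact pow_padicValNat_dvd
  have hN'0 : (N' : ℤ) ≠ 0 := by
    intro h
    have h1 : N' = 0 := by exact_mod_cast h
    rw [h1, mul_zero] at hN'
    exact hN0 hN'
  have hNz : ((q : ℕ) : ℤ) ^ e - 1 = (m : ℤ) * N' := by
    have : (((q ^ e - 1 : ℕ)) : ℤ) = ((m * N' : ℕ) : ℤ) := by rw [hN']
    rw [Nat.cast_sub hN1] at this
    push_cast at this
    exact this
  -- `m` divides `Φ_e(q)`
  obtain ⟨u, hu⟩ : (m : ℤ) ∣ P.eval (q : ℤ) := by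
    rw [← Int.natAbs_dvd_natAbs, Int.natAbs_natCast, hm]
    exact pow_padicValNat_dvd
  set Q := P /ₘ (X - C (q : ℤ)) with hQ
  have hdiv : P = (X - C (q : ℤ)) * Q + C (P.eval (q : ℤ)) := by
    have := modByMonic_add_div P (X - C (q : ℤ))
    rw [modByMonic_X_sub_C_eq_C_eval] at this
    rw [← hQ] at this
    rw [add_comm]
    exact this.symm
  set T : Module.End ℤ (Fin l → ℤ) := w - ((q : ℕ) : ℤ) • (1 : Module.End ℤ (Fin l → ℤ)) with hT
  set S : Module.End ℤ (Fin l → ℤ) :=
    ∑ j ∈ Finset.range e, w ^ j * (((q : ℕ) : ℤ) • (1 : Module.End ℤ (Fin l → ℤ))) ^ (e - 1 - j) with hS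
  have hTS : T * S = (1 - ((q : ℕ) : ℤ) ^ e) • (1 : Module.End ℤ (Fin l → ℤ)) := geom w hw
  have hTw : Commute w (((q : ℕ) : ℤ) • (1 : Module.End ℤ (Fin l → ℤ))) := (Commute.one_right w).smul_right _
  have hST : S * T = (1 - ((q : ℕ) : ℤ) ^ e) • (1 : Module.End ℤ (Fin l → ℤ)) := by
    rw [hS, hT, hTw.geom_sum₂_mul, hw, _root_.smul_pow, one_pow, sub_smul, one_smul]
  let v : Fin a → (Fin l → ℤ) := fun i => aeval w Q (x i)
  -- `(w - q) v_i = - Φ_e(q) x_i`
  have hTv : ∀ i, T (v i) = -(((m : ℤ) * u) • x i) := by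
    intro i
    have h1 := congrArg (fun p => aeval w p (x i)) hdiv
    simp only [map_add, map_mul, map_sub, aeval_X, aeval_C, LinearMap.add_apply, Module.End.mul_apply] at h1
    rw [hx i] at h1
    have h2 : T (v i) = (w - (algebraMap ℤ (Module.End ℤ (Fin l → ℤ))) (q : ℤ)) ((aeval w Q) (x i)) := by
      rw [hT]
      rfl
    rw [h2]
    have h3 : ((algebraMap ℤ (Module.End ℤ (Fin l → ℤ))) (P.eval (q : ℤ))) (x i) = ((m : ℤ) * u) • x i := by
      rw [hu]
      rfl
    rw [h3] at h1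
    exact eq_neg_of_add_eq_zero_left h1.symm
  have hyv : ∀ i i', y i (v i') = if i = i' then c else 0 := by
    intro i i'
    apply functional hPm hPd
    intro j hj
    rw [hy i i' j hj]
    by_cases h : i = i'
    · simp [h]
    · simp [h]
  -- `w v_i ≡ q v_i`, `S v_i ≡ e q^(e-1) v_i` modulo `m`
  have hmod : ∀ i, ∃ z : Fin l → ℤ, S (v i) = ((e : ℤ) * (q : ℤ) ^ (e - 1)) • v i + (m : ℤ) • z := by
    intro i
    have hpow : ∀ j : ℕ, ∃ z : Fin l → ℤ, (w ^ j) (v i) = ((q : ℤ) ^ j) • v i + (m : ℤ) • z := by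
      intro j
      induction j with
      | zero => exact ⟨0, by simp⟩
      | succ j ih =>
        obtain ⟨z, hz⟩ := ih
        refine ⟨w z + (q : ℤ) ^ j • (-(u • x i)), ?_⟩
        have hwv : w (v i) = (q : ℤ) • v i + -(((m : ℤ) * u) • x i) := by
          rw [← hTv i, hT]
          simp
        rw [pow_succ', Module.End.mul_apply, hz, map_add, map_smul, map_smul, hwv]
        rw [pow_succ]
        module
    choose z hz using hpow
    refine ⟨∑ j ∈ Finset.range e, ((q : ℤ) ^ (e - 1 - j)) • z j, ?_⟩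
    rw [hS, LinearMap.sum_apply, Finset.smul_sum]
    have h1 : ∀ j ∈ Finset.range e, (w ^ j * (((q : ℕ) : ℤ) • (1 : Module.End ℤ (Fin l → ℤ))) ^ (e - 1 - j)) (v i) =
        ((q : ℤ) ^ (e - 1)) • v i + (m : ℤ) • ((q : ℤ) ^ (e - 1 - j)) • z j := by
      intro j hj
      have hj' := Finset.mem_range.1 hj
      rw [_root_.smul_pow, one_pow, mul_smul_comm, mul_one, LinearMap.smul_apply, hz j]
      have h2 : (q : ℤ) ^ (e - 1) = (q : ℤ) ^ (e - 1 - j) * (q : ℤ) ^ j := by
        rw [← pow_add]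
        congr 1
        omega
      rw [h2]
      module
    rw [Finset.sum_congr rfl h1, Finset.sum_add_distrib, Finset.sum_const, Finset.card_range, mul_smul]
    congr 1
  -- the homomorphism
  let g0 : (Fin a → ℤ) →ₗ[ℤ] (Fin l → ℤ) := Fintype.linearCombination ℤ v
  let g : (Fin a → ℤ) →ₗ[ℤ] ((Fin l → ℤ) ⧸ LinearMap.range T) := (LinearMap.range T).mkQ ∘ₗ ((N' : ℤ) • g0)
  apply exists_hom_of_ker g.toAddMonoidHom
  · intro t
    show (LinearMap.range T).mkQ ((N' : ℤ) • g0 (fun i => (m : ℤ) * t i)) = 0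
    have h1 : (fun i => (m : ℤ) * t i) = (m : ℤ) • t := rfl
    have hh : (N' : ℤ) • g0 ((m : ℤ) • t) = (((q : ℕ) : ℤ) ^ e - 1) • g0 t := by
      rw [g0.map_smul, smul_smul, mul_comm, ← hNz]
    rw [h1, hh, Submodule.mkQ_apply, Submodule.Quotient.mk_eq_zero, LinearMap.mem_range]
    refine ⟨-(S (g0 t)), ?_⟩
    have h2 := congrArg (fun f : Module.End ℤ (Fin l → ℤ) => f (g0 t)) hTS
    simp only [Module.End.mul_apply, LinearMap.smul_apply, Module.End.one_apply] at h2
    rw [map_neg, h2]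
    module
  · intro t ht i'
    have h1 : (LinearMap.range T).mkQ ((N' : ℤ) • g0 t) = 0 := ht
    obtain ⟨b, hb⟩ := LinearMap.mem_range.1 ((Submodule.Quotient.mk_eq_zero _).1 h1)
    have h2 := congrArg (fun f : Module.End ℤ (Fin l → ℤ) => f b) hST
    simp only [Module.End.mul_apply, LinearMap.smul_apply, Module.End.one_apply] at h2
    rw [hb, map_smul] at h2
    have h3 : S (g0 t) = -((m : ℤ) • b) := by
      have h4 : (N' : ℤ) • S (g0 t) = (N' : ℤ) • (-((m : ℤ) • b)) := by
        rw [h2]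
        have h5 : (1 - ((q : ℕ) : ℤ) ^ e) = -((m : ℤ) * N') := by rw [← hNz]; ring
        rw [h5]
        module
      exact smul_right_injective _ hN'0 h4
    choose z hz using hmod
    have h6 : S (g0 t) = ((e : ℤ) * (q : ℤ) ^ (e - 1)) • g0 t + (m : ℤ) • ∑ i, t i • z i := by
      simp only [g0, Fintype.linearCombination_apply]
      rw [map_sum, Finset.smul_sum, Finset.smul_sum, ← Finset.sum_add_distrib]
      apply Finset.sum_congr rfl
      intro i _
      rw [map_smul, hz i]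
      module
    have h7 := congrArg (y i') (h6.symm.trans h3)
    rw [map_add, map_smul, map_smul, map_neg, map_smul] at h7
    have h8 : y i' (g0 t) = t i' * c := by
      simp only [g0, Fintype.linearCombination_apply]
      rw [map_sum, Finset.sum_eq_single i']
      · rw [map_smul, hyv, if_pos rfl, smul_eq_mul]
      · intro i _ hi
        rw [map_smul, hyv, if_neg (Ne.symm hi), smul_zero]
      · intro h
        exact absurd (Finset.mem_univ _) h
    rw [h8] at h7
    simp only [smul_eq_mul] at h7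
    have h9 : (m : ℤ) ∣ ((e : ℤ) * (q : ℤ) ^ (e - 1) * c) * t i' := by
      refine ⟨-(y i' b) - y i' (∑ i, t i • z i), ?_⟩
      linear_combination h7
    have hcop : IsCoprime (m : ℤ) ((e : ℤ) * (q : ℤ) ^ (e - 1) * c) := by
      rw [hm, Nat.cast_pow]
      apply IsCoprime.pow_left
      rw [(Nat.prime_iff_prime_int.1 hr.out).irreducible.coprime_iff_not_dvd]
      intro h
      have hp := Nat.prime_iff_prime_int.1 hr.out
      rcases hp.dvd_mul.1 h with h | h
      · rcases hp.dvd_mul.1 h with h | h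
        · exact hre (Int.natCast_dvd_natCast.1 h)
        · exact hrq (Int.natCast_dvd_natCast.1 (hp.dvd_of_dvd_pow h))
      · exact hc h
    exact hcop.dvd_of_dvd_mul_left h9

end Main

end Cfsg.Agent.H130.Cok
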