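import Cfsg.Agent.H130.GLn
import Cfsg.Agent.S0778
import Cfsg.Agent.LieClassical.SympCount

/-!
# Sylow subgroups of `Sp_2n(q)` for large primes (helper130)
-/

set_option autoImplicit false

namespace Cfsg.Agent.H130.Spn

open Cfsg.Agent.H130.Homo Cfsg.Agent.H130.GLn

universe u v

/-- the inclusion of `Sp_2n` in `GL_2n` -/
noncomputable def toGL (n : ℕ) (F : Type u) [Field F] :
    Matrix.symplecticGroup (Fin n) F →* Matrix.GeneralLinearGroup (Fin (n + n)) F :=
  (Units.map ((Matrix.reindexAlgEquiv F F (finSumFinEquiv (m := n) (n := n))).toMulEquiv.toMonoidHom.comp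
    (Matrix.symplecticGroup (Fin n) F).subtype)).comp
    (toUnits : Matrix.symplecticGroup (Fin n) F ≃* (Matrix.symplecticGroup (Fin n) F)ˣ).toMonoidHom

theorem toGL_injective (n : ℕ) (F : Type u) [Field F] : Function.Injective (toGL n F) := by
  have h1 : Function.Injective ((Matrix.reindexAlgEquiv F F (finSumFinEquiv (m := n) (n := n))).toMulEquiv.toMonoidHom.comp
      (Matrix.symplecticGroup (Fin n) F).subtype) :=
    (Matrix.reindexAlgEquiv F F (finSumFinEquiv (m := n) (n := n))).injective.comp Subtype.val_injective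
  exact (Units.map_injective h1).comp
    (toUnits : Matrix.symplecticGroup (Fin n) F ≃* (Matrix.symplecticGroup (Fin n) F)ˣ).injective

variable {F : Type u} [Field F] [Fintype F] {q : ℕ} {r : ℕ} [hr : Fact r.Prime]

/-- the `r`-part of `|Sp_2n(q)|` -/
theorem val_Sp (hq : Fintype.card F = q) (hrq : ¬ r ∣ q) (n : ℕ)
    (hn : ∀ i ∈ Finset.Icc 1 n, orderOf (q : ZMod r) ∣ 2 * i → ¬ r ∣ 2 * i) :
    (Nat.card (Matrix.symplecticGroup (Fin n) F)).factorization r =
      ((Finset.Icc 1 n).filter (fun i => orderOf (q : ZMod r) ∣ 2 * i)).card * val r q := by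
  have hq1 := one_lt_q hq
  rw [Cfsg.Agent.LieClassical.SympCount.card_symplecticGroup, hq]
  have hpos : ∀ i ∈ Finset.range n, q ^ (2 * (i + 1)) - 1 ≠ 0 := by
    intro i hi
    have : 1 < q ^ (2 * (i + 1)) := Nat.one_lt_pow (by omega) hq1
    omega
  have hq0 : q ≠ 0 := by omega
  rw [Nat.factorization_mul (pow_ne_zero _ hq0) (Finset.prod_ne_zero_iff.2 hpos), Finsupp.add_apply,
    Nat.factorization_eq_zero_of_not_dvd (fun h => hrq (hr.out.dvd_of_dvd_pow h)), zero_add,
    Nat.factorization_prod hpos, Finsupp.finsetSum_apply]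
  have h1 : ∀ i ∈ Finset.range n, (q ^ (2 * (i + 1)) - 1).factorization r =
      if orderOf (q : ZMod r) ∣ 2 * (i + 1) then val r q else 0 := by
    intro i hi
    rw [Nat.factorization_def _ hr.out]
    exact val_pow_sub_one hrq hq1 (hn _ (by
      have := Finset.mem_range.1 hi
      exact Finset.mem_Icc.2 ⟨by omega, by omega⟩))
  rw [Finset.sum_congr rfl h1]
  have h2 : ∑ i ∈ Finset.range n, (if orderOf (q : ZMod r) ∣ 2 * (i + 1) then val r q else 0) =
      ∑ i ∈ Finset.Icc 1 n, (if orderOf (q : ZMod r) ∣ 2 * i then val r q else 0) := by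
    apply Finset.sum_nbij' (fun i => i + 1) (fun i => i - 1)
    · intro i hi
      have := Finset.mem_range.1 hi
      exact Finset.mem_Icc.2 ⟨by omega, by omega⟩
    · intro i hi
      have := Finset.mem_Icc.1 hi
      exact Finset.mem_range.2 (by omega)
    · intro i hi
      omega
    · intro i hi
      have := Finset.mem_Icc.1 hi
      omega
    · intro i hi
      rfl
  rw [h2, ← Finset.sum_filter, Finset.sum_const, smul_eq_mul]

/-- **Sylow `r`-subgroups of `Sp_2n(q)`.** -/
theorem sylow_Sp (hq : Fintype.card F = q) (hrq : ¬ r ∣ q) (hr2 : r ≠ 2) (n : ℕ) (hrn : n < r)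
    (P : Sylow r (Matrix.symplecticGroup (Fin n) F)) :
    Nonempty (↥(P : Subgroup (Matrix.symplecticGroup (Fin n) F)) ≃*
      (Fin ((Finset.Icc 1 n).filter (fun i => orderOf (q : ZMod r) ∣ 2 * i)).card →
        Multiplicative (ZMod (r ^ val r q)))) := by
  have hr2' : ¬ r ∣ 2 := fun h => hr2 ((Nat.prime_dvd_prime_iff_eq hr.out Nat.prime_two).1 h)
  have hfac := val_Sp (F := F) hq hrq n (fun i hi _ hri => by
    have h1 := Finset.mem_Icc.1 hi
    rcases hr.out.dvd_mul.1 hri with h | h
    · exact hr2' h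
    · have h2 := Nat.le_of_dvd (by omega) h
      omega)
  set d := orderOf (q : ZMod r) with hd
  have hd0 : 0 < d := orderOf_pos_zmod hrq
  rcases Nat.even_or_odd d with he | ho
  · -- `d` even: a Sylow subgroup of `GL_2n(q)`
    have hn : ∀ i ∈ Finset.Ioc 0 (n + n), orderOf (q : ZMod r) ∣ i → ¬ r ∣ i := by
      intro i hi h1 h2
      have h3 : r * d ∣ i := (coprime_orderOf hrq).mul_dvd_of_dvd_of_dvd h2 h1
      have h4 := Finset.mem_Ioc.1 hi
      have h5 := Nat.le_of_dvd h4.1 h3
      obtain ⟨e, he⟩ := he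
      have h6 : 2 ≤ d := by omega
      have h7 : r * 2 ≤ r * d := Nat.mul_le_mul_left r h6
      omega
    have hcount : ((Finset.Icc 1 n).filter (fun i => d ∣ 2 * i)).card = (n + n) / d := by
      rw [← Nat.Ioc_filter_dvd_card_eq_div]
      apply Finset.card_bij (fun i _ => 2 * i)
      · intro i hi
        obtain ⟨h1, h2⟩ := Finset.mem_filter.1 hi
        have h3 := Finset.mem_Icc.1 h1
        exact Finset.mem_filter.2 ⟨Finset.mem_Ioc.2 ⟨by omega, by omega⟩, h2⟩
      · intro i _ j _ h
        omega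
      · intro j hj
        obtain ⟨h1, h2⟩ := Finset.mem_filter.1 hj
        have h3 := Finset.mem_Ioc.1 h1
        obtain ⟨e, he⟩ := he
        obtain ⟨c, hc⟩ := h2
        have h4 : j = 2 * (e * c) := by rw [hc, he]; ring
        exact ⟨e * c, Finset.mem_filter.2 ⟨Finset.mem_Icc.2 ⟨by omega, by omega⟩, ⟨c, by rw [← h4, hc]⟩⟩, h4.symm⟩
    have hGL := val_GL (F := F) hq hrq (n + n) hn
    rw [← hd] at hGL
    let e0 := (P : Subgroup (Matrix.symplecticGroup (Fin n) F)).equivMapOfInjective (toGL n F) (toGL_injective n F)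
    let Q : Sylow r (Matrix.GeneralLinearGroup (Fin (n + n)) F) :=
      Sylow.ofCard ((P : Subgroup (Matrix.symplecticGroup (Fin n) F)).map (toGL n F)) (by
        rw [hGL, ← hcount, ← hfac, ← Sylow.card_eq_multiplicity P]
        exact Nat.card_congr e0.toEquiv.symm)
    obtain ⟨e⟩ := sylow_GL hq hrq (n + n) hn Q
    rw [hcount]
    exact ⟨e0.trans e⟩
  · -- `d` odd: a Sylow subgroup of `GL_n(q)`
    have hdvd : ∀ i, d ∣ 2 * i ↔ d ∣ i := by
      intro i
      constructor
      · intro h
        exact (Nat.Coprime.dvd_of_dvd_mul_left (Nat.coprime_comm.1 (Nat.coprime_two_left.2 ho)) h)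
      · intro h
        exact h.mul_left 2
    have hcount : ((Finset.Icc 1 n).filter (fun i => d ∣ 2 * i)).card = n / d := by
      rw [← Nat.Ioc_filter_dvd_card_eq_div]
      congr 1
      ext i
      simp only [Finset.mem_filter, Finset.mem_Icc, Finset.mem_Ioc, hdvd]
      constructor
      · rintro ⟨⟨h1, h2⟩, h3⟩
        exact ⟨⟨by omega, h2⟩, h3⟩
      · rintro ⟨⟨h1, h2⟩, h3⟩
        exact ⟨⟨by omega, h2⟩, h3⟩
    obtain ⟨f, hf⟩ := exists_hom_model (F := F) hq hrq (n := n) (a := n / d) (Nat.mul_div_le _ _)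
    rw [hcount]
    rw [hcount] at hfac
    exact sylow_equiv_of_hom ((Cfsg.Agent.S0778.blkHom n).comp f)
      ((Cfsg.Agent.S0778.blkHom_injective n).comp hf) (by rw [card_model, hfac]) P

end Cfsg.Agent.H130.Spn
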