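import Cfsg.Agent.H378.Regular
import Cfsg.Agent.H944.TorAnyChev

/-!
# Element orders of `D.group F` and determinants `det (w - q)` (helper130)

* `dvd_det` : the order of `x ∈ D.group F`, if prime to `|F|`, divides `det (w - q)` for some `w ∈ W`;
* `exists_orderOf` : for `w ∈ W` and `N` squarefree, prime to `d`, with `N ∣ det (w - q)` there is an element of order `N`;
* `exists_orderOf_char'` : an element of order `r N`, `r` the characteristic, from a root `a` with `w a = a` and a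
  character of order `N` of `ℤ^l / (w - q)` trivial at `a`; `exists_orderOf_char` : for a prime `N ∣ det (w - q)` not
  dividing `q - 1`; `exists_orderOf_char_one` : for `N ∣ q - 1`, `w = 1`.
-/

set_option autoImplicit false
set_option linter.unusedSectionVars false

namespace Cfsg.Agent.H130.TorOrd

open CoxeterSystem Subgroup Cfsg Cfsg.Lie Cfsg.Lie.ChevalleyDatum
open Cfsg.Agent.ChevalleyStructure Cfsg.Agent.ChevalleyStructure.Elts Cfsg.Agent.ChevalleyStructure.CoxeterGeom
  Cfsg.Agent.ChevalleyStructure.CoxeterGeomTypes Cfsg.Agent.ChevalleyStructure.NPerm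
open Cfsg.Agent.Tits.Roots Cfsg.Agent.Tits.Core Cfsg.Agent.Nodes.Reps Cfsg.Agent.Nodes.BNOf
  Cfsg.Agent.Nodes.RGDChev Cfsg.Agent.Nodes.Bruhat
open Cfsg.Agent.KFacts.RgdField Cfsg.Agent.KFacts.RgdChevCoord Cfsg.Agent.BpExc.TorCent Cfsg.Agent.BpExc.TorChev
open Cfsg.Agent.BpExc.Tow Cfsg.Agent.BpExc.TowChev Cfsg.Agent.BpExc.FamExt Cfsg.Agent.BpExc.FamUntw
  Cfsg.Agent.BpExc.FamInst Cfsg.Agent.BpExc.LangFr Cfsg.Agent.BpExc.FamField
open Cfsg.Agent.GpExc.Field (glMap emb coe_emb glMap_xG emb_injective coe_glMap)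
open Cfsg.Agent.H378.TorDual Cfsg.Agent.H378.TorChar Cfsg.Agent.H378.TorFin Cfsg.Agent.H378.LatRoot
  Cfsg.Agent.H378.Regular

universe u v

/-! ### groups -/

/-- in a finite commutative group, a squarefree divisor of the order is the order of an element -/
theorem exists_orderOf_squarefree {A : Type*} [CommGroup A] [Finite A] {N : ℕ} (hN : Squarefree N)
    (h : N ∣ Nat.card A) : ∃ x : A, orderOf x = N := by
  have hexp : Monoid.ExponentExists A := Monoid.ExponentExists.of_finite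
  obtain ⟨g, hg⟩ := Monoid.exists_orderOf_eq_exponent hexp
  have hd : N ∣ Monoid.exponent A := by
    have h1 := h.trans (card_dvd_exponent_pow_rank A)
    by_cases hr : Group.rank A = 0
    · rw [hr, pow_zero] at h1
      exact h1.trans (one_dvd _)
    · exact (hN.dvd_pow_iff_dvd hr).1 h1
  obtain ⟨c, hc⟩ := hd
  have hc0 : c ≠ 0 := by
    rintro rfl
    rw [mul_zero] at hc
    exact hexp.exponent_ne_zero hc
  refine ⟨g ^ c, ?_⟩
  rw [orderOf_pow' g hc0, hg, hc, Nat.gcd_eq_right (Dvd.intro_left _ rfl),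
    Nat.mul_div_cancel _ (Nat.pos_of_ne_zero hc0)]

/-- the order is preserved by a homomorphism with kernel of exponent prime to it -/
theorem orderOf_of_ker {A B : Type*} [Group A] [Group B] (φ : A →* B) {d : ℕ} (hφ : ∀ x, φ x = 1 → x ^ d = 1) (x : A)
    (hd : (orderOf x).Coprime d) : orderOf (φ x) = orderOf x := by
  apply Nat.dvd_antisymm (orderOf_map_dvd φ x)
  have h1 : φ (x ^ orderOf (φ x)) = 1 := by rw [map_pow, pow_orderOf_eq_one]
  have h2 := hφ _ h1
  rw [← pow_mul] at h2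
  exact hd.dvd_of_dvd_mul_right (orderOf_dvd_of_pow_eq_one h2)

/-! ### lattices -/

section Lattice

variable {l : ℕ} {k : Type u} [Field k]

/-- the order of a character trivial on the image of `f` divides `det f` -/
theorem orderOf_dvd_det {f : Module.End ℤ (Fin l → ℤ)} {χ : Ch l k} (h : χ ∈ KerOf k f) :
    (orderOf χ : ℤ) ∣ LinearMap.det f := by
  have h1 : ∀ x : Fin l → ℤ, f (Matrix.toLin' (LinearMap.toMatrix' f).adjugate x) = LinearMap.det f • x := by
    intro x
    have h2 : f = Matrix.toLin' (LinearMap.toMatrix' f) := (Matrix.toLin'_toMatrix' f).symm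
    conv_lhs => rw [h2]
    rw [← Matrix.toLin'_mul_apply, LinearMap.toMatrix'_toLin', Matrix.mul_adjugate, LinearMap.det_toMatrix']
    rw [map_smul, Matrix.toLin'_one]
    rfl
  have h3 : χ ^ (LinearMap.det f).natAbs = 1 := by
    refine MonoidHom.ext fun x => ?_
    rw [MonoidHom.pow_apply]
    have h5 := (mem_kerOf k).1 h (Matrix.toLin' (LinearMap.toMatrix' f).adjugate (Multiplicative.toAdd x))
    rw [h1, ofAdd_zsmul, map_zpow] at h5
    have h7 : χ x ^ LinearMap.det f = 1 := h5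
    show χ x ^ (LinearMap.det f).natAbs = 1
    rcases Int.natAbs_eq (LinearMap.det f) with h6 | h6
    · rw [h6, zpow_natCast] at h7
      exact h7
    · rw [h6, zpow_neg, zpow_natCast, inv_eq_one] at h7
      exact h7
  exact Int.natCast_dvd.2 (orderOf_dvd_of_pow_eq_one h3)

end Lattice

variable {D : ChevalleyDatum} {l : ℕ} {M : CoxeterMatrix (Fin l)} (hp : IsType D l M) {k : Type u} [Field k]
  {W : Type*} [Group W] (cs : CoxeterSystem M W)

/-- **The order of a semisimple element divides a determinant `det (w - q)`.** -/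
theorem dvd_det [Finite W] {F : Type u} [Field F] [Finite F] {x : ↥(D.group F)}
    (hN : (orderOf x).Coprime (Nat.card F)) :
    ∃ w : W, (orderOf x : ℤ) ∣ LinearMap.det (rep cs hp.isCartan w - ((Nat.card F : ℕ) : ℤ) •
      (1 : Module.End ℤ (Fin l → ℤ))) := by
  obtain ⟨k, _, _, f, r, _, _, n, hk, hka, hn0, hn⟩ := exists_closure F
  have hemb := emb_injective hp.inList f
  have hcop : (orderOf x).Coprime r := by
    rw [hn] at hN
    exact Nat.Coprime.coprime_dvd_right (dvd_pow_self _ hn0.ne') hN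
  have hord : orderOf (emb hp.inList f x) = orderOf x := orderOf_injective _ hemb x
  have hr1 : r ≠ 1 := (Fact.out : r.Prime).ne_one
  have hN0 : orderOf x ≠ 0 := by
    intro h0
    rw [h0, Nat.coprime_zero_left] at hcop
    exact hr1 hcop
  obtain ⟨g0, hg0⟩ := H944.TorAnyChev.exists_conj_mem_TT hp r hka hN0 hcop (x := emb hp.inList f x)
    (by rw [← hord, pow_orderOf_eq_one])
  have hσ : phi D k r n (emb hp.inList f x) = emb hp.inList f x := phi_emb' hp f r hn x
  obtain ⟨t, ht⟩ : ∃ t, t = g0 * emb hp.inList f x * g0⁻¹ := ⟨_, rfl⟩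
  rw [← ht] at hg0
  have h1 : phi D k r n t = phi D k r n g0 * emb hp.inList f x * (phi D k r n g0)⁻¹ := by
    rw [ht, map_mul, map_mul, map_inv, hσ]
  have e1 : g0 * (phi D k r n g0)⁻¹ * phi D k r n t = t * (g0 * (phi D k r n g0)⁻¹) := by
    rw [h1, ht]; group
  obtain ⟨m, hm, w, g, hg, hgs, hc⟩ := exists_form' hp cs hk r (phi_mem hp r hg0) hg0 e1
  have hgt : g * phi D k r n t * g⁻¹ = t := by rw [hgs]; group
  have hχK := (mem_TwT_iff hp cs r hk hg hg0).1 ⟨hg0, hgt⟩
  refine ⟨w, ?_⟩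
  have hordt : orderOf t = orderOf x := by
    rw [← hord, ht]
    have := orderOf_injective (MulAut.conj g0).toMonoidHom (MulAut.conj g0).injective (emb hp.inList f x)
    rwa [MulEquiv.coe_toMonoidHom, MulAut.conj_apply] at this
  have hordχ : orderOf (tchar hp ⟨t, hg0⟩) = orderOf x := by
    rw [orderOf_injective (tchar hp) (tchar_injective hp), ← hordt]
    exact (orderOf_injective (TT D k).subtype Subtype.val_injective ⟨t, hg0⟩).symm
  rw [← hordχ, hn]
  exact orderOf_dvd_det hχK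

/-- **Elements of squarefree order dividing `det (w - q)`.** -/
theorem exists_orderOf {d : ℕ} {B : Fin l → Fin l → ℤ} (hB : InvC D l d B) (hd : d ≠ 0) {F : Type u} [Field F]
    [Finite F] (w : W) {N : ℕ} (hN : Squarefree N) (hNd : N.Coprime d)
    (h : (N : ℤ) ∣ LinearMap.det (rep cs hp.isCartan w - ((Nat.card F : ℕ) : ℤ) • (1 : Module.End ℤ (Fin l → ℤ)))) :
    ∃ x : ↥(D.group F), orderOf x = N := by
  obtain ⟨φ, hφ⟩ := H378.TorFin.exists_hom hp cs hB hd (F := F) w
  obtain ⟨k, _, _, f, r, _, _, n, hk, hka, hn0, hn⟩ := exists_closure F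
  have hdet : LinearMap.det (rep cs hp.isCartan w - ((Nat.card F : ℕ) : ℤ) • (1 : Module.End ℤ (Fin l → ℤ))) ≠ 0 := by
    intro h0
    have h1 := det_rep_ne_zero (k := k) cs r hn0 hp.isCartan w
    rw [← hn, h0, Int.cast_zero] at h1
    exact h1 rfl
  have hfin := finite_co hdet
  have hcard : Nat.card (Multiplicative (Co (rep cs hp.isCartan w - ((Nat.card F : ℕ) : ℤ) •
      (1 : Module.End ℤ (Fin l → ℤ))))) = (LinearMap.det (rep cs hp.isCartan w - ((Nat.card F : ℕ) : ℤ) •
        (1 : Module.End ℤ (Fin l → ℤ)))).natAbs := card_co hdet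
  obtain ⟨x, hx⟩ := exists_orderOf_squarefree hN (A := Multiplicative (Co (rep cs hp.isCartan w -
    ((Nat.card F : ℕ) : ℤ) • (1 : Module.End ℤ (Fin l → ℤ))))) (by rw [hcard]; exact Int.natCast_dvd.1 h)
  exact ⟨φ x, (orderOf_of_ker φ hφ x (by rw [hx]; exact hNd)).trans hx⟩

/-- the action of a representative of `w` on the root groups, in coordinates -/
theorem rp_xc [Finite W] (hk : LocFin k) (r : ℕ) [Fact r.Prime] [CharP k r] {hN : NSys M (TT D k) (nc hp k)} {w : W}
    {g : ↥(D.group k)} (hg : Rp cs hN w g) {a : Fin l → ℤ} (ha : IsRoot cs hp.isCartan a) :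
    ∃ c, c ≠ 0 ∧ ∀ b, g * xc hp a b * g⁻¹ = xc hp (rep cs hp.isCartan w a) (c * b) := by
  have C := coordsL hp cs hk r
  obtain ⟨ω, rfl⟩ := cs.wordProd_surjective w
  induction ω generalizing g with
  | nil =>
    rw [wordProd_nil] at hg ⊢
    rw [map_one, Module.End.one_apply]
    exact ⟨ch hp a g, (C.coord a ha).chi_ne_zero hg.mem_of_one, (C.coord a ha).act g hg.mem_of_one⟩
  | cons i ω ih =>
    rw [wordProd_cons] at hg ⊢
    have h1 : Rp cs hN (cs.wordProd ω) ((nc hp k i)⁻¹ * g) := by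
      have := (rp_simple cs hN i).inv.mul hg
      rwa [inv_mul_cancel_left] at this
    obtain ⟨c, hc, h2⟩ := ih h1
    obtain ⟨c', hc', h3⟩ := C.nact i _ (ha.act (cs.wordProd ω))
    refine ⟨c' * c, mul_ne_zero hc' hc, fun b => ?_⟩
    rw [rep_mul_apply, mul_assoc c', ← h3, ← h2]
    group

/-- **Elements of order `r N`** from a root `a` fixed by `w` and a character of order `N` trivial at `a`. -/
theorem exists_orderOf_char' [Finite W] {d : ℕ} {B : Fin l → Fin l → ℤ} (hB : InvC D l d B) (hd : d ≠ 0) {F : Type u}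
    [Field F] [Finite F] {p : ℕ} [hpp : Fact p.Prime] (hF : CharP F p) (w : W) {N : ℕ} (hNp : N.Coprime p)
    (hNd : (p * N).Coprime d) {a : Fin l → ℤ} (ha : IsRoot cs hp.isCartan a) (hwa : rep cs hp.isCartan w a = a)
    (H : ∀ (k : Type u) [Field k] [IsAlgClosed k] [CharP k p], ∃ χ ∈ KerOf k (rep cs hp.isCartan w -
      ((Nat.card F : ℕ) : ℤ) • (1 : Module.End ℤ (Fin l → ℤ))), orderOf χ = N ∧ χ (Multiplicative.ofAdd a) = 1) :
    ∃ x : ↥(D.group F), orderOf x = p * N := by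
  obtain ⟨k, _, _, f, r, _, _, n, hk, hka, hn0, hn⟩ := exists_closure F
  have hFr : CharP F r := (RingHom.charP_iff f f.injective r).2 inferInstance
  obtain rfl : p = r := CharP.eq F hF hFr
  obtain ⟨χ, hχK, hχN, hχa⟩ := H k
  obtain ⟨t', ht'⟩ := tchar_surjective hp hB hd χ
  obtain ⟨t, ht⟩ := t'
  obtain ⟨g, hg⟩ := exists_rp cs (nsysL hp cs hk p) w
  obtain ⟨z, hz⟩ := lang' hp p hn0 g
  rw [hn] at hχK
  have htw : g * phi D k p n t * g⁻¹ = t :=
    ((mem_TwT_iff hp cs p hk hg ht).2 (by rw [ht']; exact hχK)).2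
  have C := coordsL hp cs hk p
  obtain ⟨c, hc0, hc⟩ := rp_xc hp cs hk p hg ha
  rw [hwa] at hc
  -- the unipotent element
  have hq1 : 0 < p ^ n - 1 := by
    have : 1 < p ^ n := Nat.one_lt_pow hn0.ne' hpp.out.one_lt
    omega
  obtain ⟨b, hb⟩ := IsAlgClosed.exists_pow_nat_eq c⁻¹ hq1
  have hb0 : b ≠ 0 := by
    rintro rfl
    rw [zero_pow hq1.ne'] at hb
    exact inv_ne_zero hc0 hb.symm
  have hbq : c * b ^ p ^ n = b := by
    have h1 : p ^ n = (p ^ n - 1) + 1 := by omega
    rw [h1, pow_succ, hb, mul_inv_cancel_left₀ hc0]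
  obtain ⟨s, hs, rfl⟩ := (isRoot_iff hp cs a).1 ha
  obtain ⟨u, hu⟩ : ∃ u, u = xc hp (vec D l s) b := ⟨_, rfl⟩
  have hu1 : u ≠ 1 := by rw [hu]; exact (C.coord _ ha).ne_one hb0
  have hup : u ^ p = 1 := by
    have h1 : ∀ j : ℕ, u ^ j = xc hp (vec D l s) (j * b) := by
      intro j
      induction j with
      | zero => rw [pow_zero, Nat.cast_zero, zero_mul, (C.coord _ ha).zero]
      | succ j ih => rw [pow_succ, ih, hu, ← (C.coord _ ha).add, Nat.cast_succ, add_mul, one_mul]
    rw [h1, CharP.cast_eq_zero, zero_mul, (C.coord _ ha).zero]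
  have hou : orderOf u = p := orderOf_eq_prime hup hu1
  have hut : u * t = t * u := by
    have h1 := (C.coord _ ha).act t ht b
    have h2 : ch hp (vec D l s) t = 1 := by
      have h3 := tchar_apply hp cs hk p ⟨t, ht⟩ ha
      rw [ht', hχa] at h3
      exact h3.symm
    rw [h2, one_mul, ← hu] at h1
    calc u * t = t * u * t⁻¹ * t := by rw [h1]
      _ = t * u := by group
  have huw : g * phi D k p n u * g⁻¹ = u := by
    rw [hu, phi_xc hp p hs, hc, hbq]
  have hot : orderOf t = N := by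
    rw [← hχN, ← ht', orderOf_injective (tchar hp) (tchar_injective hp)]
    exact orderOf_injective (TT D k).subtype Subtype.val_injective ⟨t, ht⟩
  have hout : orderOf (u * t) = p * N := by
    rw [Commute.orderOf_mul_eq_mul_orderOf_of_coprime hut (by rw [hou, hot]; exact hNp.symm), hou, hot]
  -- the conjugate
  have hphi : phi D k p n (z * (u * t) * z⁻¹) = z * (u * t) * z⁻¹ := by
    have h1 : phi D k p n z = z * g := by rw [← hz]; group
    rw [map_mul, map_mul, map_inv, map_mul, h1]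
    calc z * g * (phi D k p n u * phi D k p n t) * (z * g)⁻¹ =
        z * ((g * phi D k p n u * g⁻¹) * (g * phi D k p n t * g⁻¹)) * z⁻¹ := by group
      _ = z * (u * t) * z⁻¹ := by rw [huw, htw]
  obtain ⟨x, hx⟩ := fix_pow_mem hp f p hn hB hd hphi
  refine ⟨x, ?_⟩
  have h1 : orderOf (z * (u * t) * z⁻¹) = p * N := by
    rw [← hout]
    have := orderOf_injective (MulAut.conj z).toMonoidHom (MulAut.conj z).injective (u * t)
    rwa [MulEquiv.coe_toMonoidHom, MulAut.conj_apply] at this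
  have h2 : orderOf (emb hp.inList f x) = orderOf x := orderOf_injective _ (emb_injective hp.inList f) x
  rw [← h2, hx, Nat.Coprime.orderOf_pow (by rw [h1]; exact hNd), h1]

/-- **Elements of order `r s`**, `s ∣ det (w - q)` prime, not dividing `q - 1`, `w` fixing a root. -/
theorem exists_orderOf_char [Finite W] {d : ℕ} {B : Fin l → Fin l → ℤ} (hB : InvC D l d B) (hd : d ≠ 0) {F : Type u}
    [Field F] [Finite F] {p : ℕ} [hpp : Fact p.Prime] (hF : CharP F p) (w : W) {s : ℕ} (hs : s.Prime)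
    (hsd : (p * s).Coprime d) (hs1 : ¬ (s : ℤ) ∣ (Nat.card F : ℤ) - 1)
    (h : (s : ℤ) ∣ LinearMap.det (rep cs hp.isCartan w - ((Nat.card F : ℕ) : ℤ) • (1 : Module.End ℤ (Fin l → ℤ))))
    {a : Fin l → ℤ} (ha : IsRoot cs hp.isCartan a) (hwa : rep cs hp.isCartan w a = a) :
    ∃ x : ↥(D.group F), orderOf x = p * s := by
  obtain ⟨n, hn0, hn⟩ := exists_card (F := F) p
  have hdet0 : ∀ (k : Type u) [Field k] [CharP k p], ((LinearMap.det (rep cs hp.isCartan w -
      ((Nat.card F : ℕ) : ℤ) • (1 : Module.End ℤ (Fin l → ℤ))) : ℤ) : k) ≠ 0 := by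
    intro k _ _
    rw [hn]
    exact det_rep_ne_zero cs p hn0 hp.isCartan w
  have hsp : s ≠ p := by
    rintro rfl
    apply hdet0 F
    obtain ⟨c, hc⟩ := h
    rw [hc, Int.cast_mul, Int.cast_natCast, CharP.cast_eq_zero, zero_mul]
  refine exists_orderOf_char' hp cs hB hd hF w ((Nat.coprime_primes hs hpp.out).2 hsp) hsd ha hwa fun k _ _ _ => ?_
  have hfin : Finite ↥(KerOf k (rep cs hp.isCartan w - ((Nat.card F : ℕ) : ℤ) •
      (1 : Module.End ℤ (Fin l → ℤ)))) := by
    apply Nat.finite_of_card_ne_zero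
    rw [card_kerOf k (hdet0 k)]
    intro h0
    rw [Int.natAbs_eq_zero] at h0
    have := hdet0 k
    rw [h0, Int.cast_zero] at this
    exact this rfl
  have : Fact s.Prime := ⟨hs⟩
  obtain ⟨χ, hχ⟩ := exists_prime_orderOf_dvd_card' (G := ↥(KerOf k (rep cs hp.isCartan w -
    ((Nat.card F : ℕ) : ℤ) • (1 : Module.End ℤ (Fin l → ℤ))))) s (by
      rw [card_kerOf k (hdet0 k)]; exact Int.natCast_dvd.1 h)
  have hχs : orderOf χ.1 = s := by
    rw [← hχ]
    exact orderOf_injective (Subgroup.subtype _) Subtype.val_injective χ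
  refine ⟨χ.1, χ.2, hχs, ?_⟩
  have h1 := (mem_kerOf k).1 χ.2 a
  rw [LinearMap.sub_apply, hwa, LinearMap.smul_apply, Module.End.one_apply] at h1
  have h2 : χ.1 (Multiplicative.ofAdd a) ^ ((Nat.card F : ℤ) - 1) = 1 := by
    have h3 : a - ((Nat.card F : ℕ) : ℤ) • a = (-((Nat.card F : ℤ) - 1)) • a := by
      rw [neg_smul, sub_smul, one_smul]; abel
    rw [h3, ofAdd_zsmul, map_zpow, zpow_neg, inv_eq_one] at h1
    exact h1
  have h3 : χ.1 (Multiplicative.ofAdd a) ^ (s : ℤ) = 1 := by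
    rw [zpow_natCast, ← MonoidHom.pow_apply, ← hχs, pow_orderOf_eq_one]
    rfl
  have hgcd : IsCoprime ((Nat.card F : ℤ) - 1) (s : ℤ) := by
    rw [isCoprime_comm, (Nat.prime_iff_prime_int.1 hs).coprime_iff_not_dvd]
    exact hs1
  obtain ⟨u, v, huv⟩ := hgcd
  rw [← zpow_one (χ.1 (Multiplicative.ofAdd a)), ← huv, zpow_add, mul_comm u, mul_comm v, zpow_mul, zpow_mul, h2, h3,
    one_zpow, one_zpow, one_mul]

/-- **Elements of order `r s`, `s ∣ q - 1`**: an integral vector `c`, not divisible by `s`, orthogonal to a root. -/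
theorem exists_orderOf_char_one [Finite W] {d : ℕ} {B : Fin l → Fin l → ℤ} (hB : InvC D l d B) (hd : d ≠ 0)
    {F : Type u} [Field F] [Finite F] {p : ℕ} [hpp : Fact p.Prime] (hF : CharP F p) {s : ℕ} (hs : s.Prime)
    (hsd : (p * s).Coprime d) (hs1 : (s : ℤ) ∣ (Nat.card F : ℤ) - 1) {a : Fin l → ℤ}
    (ha : IsRoot cs hp.isCartan a) {c : Fin l → ℤ} {i : Fin l} (hi : ¬ (s : ℤ) ∣ c i)
    (hc : (s : ℤ) ∣ ∑ i, c i * a i) : ∃ x : ↥(D.group F), orderOf x = p * s := by
  obtain ⟨n, hn0, hn⟩ := exists_card (F := F) p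
  have hsp : s ≠ p := by
    rintro rfl
    have h1 : (s : ℤ) ∣ (Nat.card F : ℤ) := by
      rw [hn, Nat.cast_pow]
      exact dvd_pow_self _ hn0.ne'
    have h2 : (s : ℤ) ∣ 1 := by
      have := dvd_sub h1 hs1
      rwa [sub_sub_cancel] at this
    exact hs.one_lt.ne' (Nat.dvd_one.1 (Int.natCast_dvd_natCast.1 (by exact_mod_cast h2)))
  refine exists_orderOf_char' hp cs hB hd hF (1 : W) ((Nat.coprime_primes hs hpp.out).2 hsp) hsd ha
    (by rw [map_one, Module.End.one_apply]) fun k _ _ _ => ?_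
  have hsk : NeZero ((s : ℕ) : k) := ⟨fun h0 => hsp ((Nat.prime_dvd_prime_iff_eq hpp.out hs).1
    ((CharP.cast_eq_zero_iff k p s).1 h0)).symm⟩
  obtain ⟨ζ', hζ'⟩ := HasEnoughRootsOfUnity.exists_primitiveRoot k s
  obtain ⟨ζ, rfl⟩ := hζ'.isUnit hs.ne_zero
  have hζ : IsPrimitiveRoot ζ s := IsPrimitiveRoot.coe_units_iff.1 hζ'
  have hχ : ∀ x : Fin l → ℤ, lat (fun j => ζ ^ c j) (Multiplicative.ofAdd x) = ζ ^ (∑ j, c j * x j) := by
    intro x
    rw [lat_apply]
    have h1 : ∀ S : Finset (Fin l), ∏ j ∈ S, (ζ ^ c j) ^ x j = ζ ^ (∑ j ∈ S, c j * x j) := by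
      intro S
      induction S using Finset.cons_induction with
      | empty => rw [Finset.prod_empty, Finset.sum_empty, zpow_zero]
      | cons j S hj ih => rw [Finset.prod_cons, Finset.sum_cons, zpow_add, ih, zpow_mul]
    exact h1 _
  refine ⟨lat fun j => ζ ^ c j, ?_, ?_, ?_⟩
  · rw [mem_kerOf]
    intro x
    rw [hχ, hζ.zpow_eq_one_iff_dvd, map_one]
    have h1 : ∀ j, c j * (((1 : Module.End ℤ (Fin l → ℤ)) - ((Nat.card F : ℕ) : ℤ) •
        (1 : Module.End ℤ (Fin l → ℤ))) x) j = ((Nat.card F : ℤ) - 1) * (-(c j * x j)) := by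
      intro j
      rw [LinearMap.sub_apply, LinearMap.smul_apply, Module.End.one_apply, Pi.sub_apply, Pi.smul_apply, smul_eq_mul]
      ring
    rw [Finset.sum_congr rfl fun j _ => h1 j, ← Finset.mul_sum]
    exact Dvd.dvd.mul_right hs1 _
  · refine orderOf_eq_prime (hp := ⟨hs⟩) ?_ ?_
    · refine MonoidHom.ext fun x => ?_
      show (lat (fun j => ζ ^ c j)) (Multiplicative.ofAdd (Multiplicative.toAdd x)) ^ s = 1
      rw [hχ, ← zpow_natCast, ← zpow_mul, mul_comm, zpow_mul, zpow_natCast, hζ.pow_eq_one, one_zpow]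
    · intro h1
      have h2 : lat (fun j => ζ ^ c j) (Multiplicative.ofAdd (sr i)) = 1 := by rw [h1]; rfl
      rw [lat_sr, hζ.zpow_eq_one_iff_dvd] at h2
      exact hi h2
  · rw [hχ, hζ.zpow_eq_one_iff_dvd]
    exact hc

end Cfsg.Agent.H130.TorOrd
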