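import Cfsg.Agent.H130.Cok
import Cfsg.Agent.H130.PolyL
import Cfsg.Agent.ChevalleyStructure.CoxeterGeom

/-!
# Certificates for elements of the Weyl group acting on the root lattice (helper130)

`Cert A l e a word k c xs ys` (decidable): with `w = (∏ word)^k` : `w ^ e = 1`, the vectors `xs` are killed by `Φ_e(w)`,
the functionals `ys` separate the `w^j x_i`. `Cert.exists_hom` : `(Z_m)^a` embeds in the cokernel of `w - q`.
-/

set_option autoImplicit false

namespace Cfsg.Agent.H130.WeylCk

open Cfsg.Agent.ChevalleyStructure.CoxeterGeom Cfsg.Agent.H130.Homo Cfsg.Agent.H130.PolyL Polynomial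

/-- scalar product of lists -/
def dot : List ℤ → List ℤ → ℤ
  | [], _ => 0
  | a :: p, q => match q with
    | [] => 0
    | b :: q => a * b + dot p q

/-- the reflection on lists -/
def rf (A : List (List ℤ)) (i : ℕ) (v : List ℤ) : List ℤ := v.set i (v.getD i 0 - dot (A.getD i []) v)

/-- a product of reflections -/
def ac {l : ℕ} (A : List (List ℤ)) (L : List (Fin l)) (v : List ℤ) : List ℤ := L.foldr (fun i v => rf A i.1 v) v

/-- its powers -/
def acn {l : ℕ} (A : List (List ℤ)) (L : List (Fin l)) : ℕ → List ℤ → List ℤ
  | 0, v => v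
  | n + 1, v => acn A L n (ac A L v)

/-- sum of vectors -/
def addV : List ℤ → List ℤ → List ℤ
  | [], _ => []
  | a :: p, q => match q with
    | [] => []
    | b :: q => (a + b) :: addV p q

/-- a polynomial (coefficient list) in `w ^ k` applied to a vector -/
def horner {l : ℕ} (A : List (List ℤ)) (L : List (Fin l)) (k : ℕ) (x : List ℤ) : List ℤ → List ℤ
  | [] => List.replicate l 0
  | c :: p => addV (x.map (fun a => c * a)) (acn A L k (horner A L k x p))

/-- the `i`-th basis vector -/
def bas (l i : ℕ) : List ℤ := (List.replicate l 0).set i 1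

section Bridge

variable {l : ℕ}

/-- list to function -/
def toFn (l : ℕ) (v : List ℤ) : Fin l → ℤ := fun j => v.getD j 0

theorem dot_eq (p q : List ℤ) (hp : p.length = l) (hq : q.length = l) :
    dot p q = ∑ j : Fin l, toFn l p j * toFn l q j := by
  induction l generalizing p q with
  | zero =>
    rw [List.length_eq_zero_iff] at hp
    subst hp
    simp [dot]
  | succ l ih =>
    cases p with
    | nil => simp at hp
    | cons a p =>
      cases q with
      | nil => simp at hq
      | cons b q =>
        rw [Fin.sum_univ_succ]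
        have := ih p q (by simpa using hp) (by simpa using hq)
        simp only [dot]
        rw [this]
        rfl

variable {A : Fin l → Fin l → ℤ} {Al : List (List ℤ)}

/-- `Al` lists the matrix `A` -/
def MatList (A : Fin l → Fin l → ℤ) (Al : List (List ℤ)) : Prop :=
  ∀ i : Fin l, (Al.getD i []).length = l ∧ ∀ j : Fin l, A i j = (Al.getD i []).getD j 0

theorem length_rf (i : ℕ) (v : List ℤ) : (rf Al i v).length = v.length := by
  rw [rf, List.length_set]

theorem toFn_rf (hA : MatList A Al) (i : Fin l) (v : List ℤ) (hv : v.length = l) :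
    toFn l (rf Al i v) = refl A i (toFn l v) := by
  funext j
  rw [refl_apply]
  have h1 : dot (Al.getD i []) v = pairing A i (toFn l v) := by
    rw [dot_eq _ _ (hA i).1 hv]
    unfold pairing
    apply Finset.sum_congr rfl
    intro j _
    rw [(hA i).2 j]
    rfl
  by_cases hj : j = i
  · subst hj
    show (v.set j.1 _).getD j.1 0 = _
    rw [Pi.sub_apply, Pi.single_eq_same, ← h1]
    rw [List.getD_eq_getElem (v.set j.1 _) _ (by rw [List.length_set, hv]; exact j.2), List.getElem_set_self]
    rfl
  · show (v.set i.1 _).getD j.1 0 = _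
    rw [Pi.sub_apply, Pi.single_eq_of_ne hj, sub_zero]
    have hne : i.1 ≠ j.1 := fun h => hj (Fin.ext h.symm)
    rw [List.getD_eq_getElem (v.set i.1 _) _ (by rw [List.length_set, hv]; exact j.2), List.getElem_set_ne hne]
    exact (List.getD_eq_getElem v 0 (by rw [hv]; exact j.2)).symm

theorem length_ac (L : List (Fin l)) (v : List ℤ) : (ac Al L v).length = v.length := by
  induction L with
  | nil => rfl
  | cons i L ih =>
    show (rf Al i.1 (ac Al L v)).length = _
    rw [length_rf, ih]

theorem length_acn (L : List (Fin l)) (n : ℕ) (v : List ℤ) : (acn Al L n v).length = v.length := by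
  induction n generalizing v with
  | zero => rfl
  | succ n ih =>
    show (acn Al L n (ac Al L v)).length = _
    rw [ih, length_ac]

variable {W : Type*} [Group W] {M : CoxeterMatrix (Fin l)} (cs : CoxeterSystem M W) (h : IsCartan M A)

theorem toFn_ac (hA : MatList A Al) (L : List (Fin l)) (v : List ℤ) (hv : v.length = l) :
    toFn l (ac Al L v) = rep cs h (cs.wordProd L) (toFn l v) := by
  induction L with
  | nil =>
    rw [CoxeterSystem.wordProd_nil, map_one]
    rfl
  | cons i L ih =>
    show toFn l (rf Al i.1 (ac Al L v)) = _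
    rw [toFn_rf hA i _ (by rw [length_ac, hv]), ih, CoxeterSystem.wordProd_cons, map_mul, rep_simple]
    rfl

theorem toFn_acn (hA : MatList A Al) (L : List (Fin l)) (n : ℕ) (v : List ℤ) (hv : v.length = l) :
    toFn l (acn Al L n v) = (rep cs h (cs.wordProd L) ^ n) (toFn l v) := by
  induction n generalizing v with
  | zero => rfl
  | succ n ih =>
    show toFn l (acn Al L n (ac Al L v)) = _
    rw [ih _ (by rw [length_ac, hv]), toFn_ac cs h hA L v hv, pow_succ]
    rfl

theorem length_addV (p q : List ℤ) (h : p.length = q.length) : (addV p q).length = q.length := by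
  induction p generalizing q with
  | nil => exact h
  | cons a p ih =>
    cases q with
    | nil => simp at h
    | cons b q =>
      simp only [addV, List.length_cons]
      rw [ih q (by simpa using h)]

theorem toFn_addV (p q : List ℤ) (hp : p.length = l) (hq : q.length = l) :
    toFn l (addV p q) = toFn l p + toFn l q := by
  induction l generalizing p q with
  | zero => funext j; exact j.elim0
  | succ l ih =>
    cases p with
    | nil => simp at hp
    | cons a p =>
      cases q with
      | nil => simp at hq
      | cons b q =>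
        funext j
        refine Fin.cases ?_ (fun j => ?_) j
        · rfl
        · exact congrFun (ih p q (by simpa using hp) (by simpa using hq)) j

theorem toFn_smul (c : ℤ) (p : List ℤ) : toFn l (p.map (fun a => c * a)) = c • toFn l p := by
  funext j
  show (p.map (fun a => c * a)).getD j.1 0 = c * p.getD j.1 0
  rw [List.getD_eq_getElem?_getD, List.getD_eq_getElem?_getD, List.getElem?_map]
  cases p[j.1]? <;> simp

theorem toFn_replicate : toFn l (List.replicate l 0) = 0 := by
  funext j
  show (List.replicate l (0 : ℤ)).getD j.1 0 = 0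
  rw [List.getD_eq_getElem _ _ (by rw [List.length_replicate]; exact j.2), List.getElem_replicate]

theorem length_horner (L : List (Fin l)) (k : ℕ) (x : List ℤ) (hx : x.length = l) (p : List ℤ) :
    (horner Al L k x p).length = l := by
  induction p with
  | nil => exact List.length_replicate
  | cons c p ih =>
    show (addV _ _).length = l
    rw [length_addV, length_acn, ih]
    rw [List.length_map, length_acn, ih, hx]

theorem toFn_horner (hA : MatList A Al) (L : List (Fin l)) (k : ℕ) (x : List ℤ) (hx : x.length = l) (p : List ℤ) :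
    toFn l (horner Al L k x p) = aeval (rep cs h (cs.wordProd L ^ k)) (ofL p) (toFn l x) := by
  induction p with
  | nil =>
    show toFn l (List.replicate l 0) = _
    rw [toFn_replicate]
    simp [ofL]
  | cons c p ih =>
    show toFn l (addV _ _) = _
    rw [toFn_addV _ _ (by rw [List.length_map, hx]) (by rw [length_acn, length_horner L k x hx]), toFn_smul,
      toFn_acn cs h hA L k _ (length_horner L k x hx p), ih]
    simp only [ofL, map_add, map_mul, aeval_X, aeval_C, LinearMap.add_apply, Module.End.mul_apply, map_pow]
    rfl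

theorem toFn_bas (i : Fin l) : toFn l (bas l i) = Pi.single i 1 := by
  funext j
  show ((List.replicate l (0 : ℤ)).set i.1 1).getD j.1 0 = _
  by_cases hj : j = i
  · subst hj
    rw [Pi.single_eq_same, List.getD_eq_getElem _ _ (by rw [List.length_set, List.length_replicate]; exact j.2),
      List.getElem_set_self]
  · have hne : i.1 ≠ j.1 := fun h => hj (Fin.ext h.symm)
    rw [Pi.single_eq_of_ne hj,
      List.getD_eq_getElem _ _ (by rw [List.length_set, List.length_replicate]; exact j.2),
      List.getElem_set_ne hne, List.getElem_replicate]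

theorem length_bas (i : ℕ) : (bas l i).length = l := by
  rw [bas, List.length_set, List.length_replicate]

/-- the functional given by a list -/
def fn (l : ℕ) (y : List ℤ) : (Fin l → ℤ) →ₗ[ℤ] ℤ where
  toFun v := ∑ j : Fin l, toFn l y j * v j
  map_add' v w := by
    rw [← Finset.sum_add_distrib]
    exact Finset.sum_congr rfl fun j _ => by rw [Pi.add_apply, mul_add]
  map_smul' c v := by
    rw [RingHom.id_apply, smul_eq_mul, Finset.mul_sum]
    exact Finset.sum_congr rfl fun j _ => by rw [Pi.smul_apply, smul_eq_mul]; ring

end Bridge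

/-- **the certificate** -/
def Cert (Al : List (List ℤ)) (l e a : ℕ) (word : List (Fin l)) (k : ℕ) (c : ℤ) (xs ys : List (List ℤ)) : Prop :=
  (∀ i : Fin l, acn Al word (k * e) (bas l i) = bas l i) ∧
  (∀ i : Fin a, (xs.getD i []).length = l ∧ (ys.getD i []).length = l) ∧
  (∀ i : Fin a, horner Al word k (xs.getD i []) (cycL e) = List.replicate l 0) ∧
  (∀ i : Fin a, ∀ i' : Fin a, ∀ j : Fin ((cycL e).length - 1), dot (ys.getD i []) (acn Al word (k * j) (xs.getD i' [])) =
    if i = i' ∧ j.1 + 2 = (cycL e).length then c else 0)

instance instDecidableCert (Al : List (List ℤ)) (l e a : ℕ) (word : List (Fin l)) (k : ℕ) (c : ℤ)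
    (xs ys : List (List ℤ)) : Decidable (Cert Al l e a word k c xs ys) := by
  unfold Cert
  infer_instance

/-- **a certificate embeds `(Z_m)^a` in the cokernel of `w - q`** -/
theorem Cert.exists_hom {Al : List (List ℤ)} {l a : ℕ} {word : List (Fin l)} {k : ℕ} {c : ℤ}
    {xs ys : List (List ℤ)} {r q : ℕ} [hr : Fact r.Prime]
    (H : Cert Al l (orderOf (q : ZMod r)) a word k c xs ys) (he : orderOf (q : ZMod r) ∈ idx)
    (hrq : ¬ r ∣ q) (hq : 1 < q) (hc : ¬ (r : ℤ) ∣ c)
    {A : Fin l → Fin l → ℤ} (hA : MatList A Al) {M : CoxeterMatrix (Fin l)} {W : Type*} [Group W]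
    (cs : CoxeterSystem M W) (h : IsCartan M A) :
    ∃ w : W, ∃ f : (Fin a → Multiplicative (ZMod (r ^ val r q))) →* Multiplicative ((Fin l → ℤ) ⧸
      LinearMap.range (rep cs h w - ((q : ℕ) : ℤ) • (1 : Module.End ℤ (Fin l → ℤ)))), Function.Injective f := by
  obtain ⟨h1, h2, h3, h4⟩ := H
  refine ⟨cs.wordProd word ^ k, Cok.exists_hom_cok hrq hq _ ?_ (fun i => toFn l (xs.getD i []))
    (fun i => fn l (ys.getD i [])) c hc ?_ ?_⟩
  · apply LinearMap.pi_ext'
    intro i
    apply LinearMap.ext_ring
    show (rep cs h (cs.wordProd word ^ k) ^ orderOf (q : ZMod r)) (Pi.single i 1) = Pi.single i 1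
    rw [← toFn_bas, map_pow, ← pow_mul, ← toFn_acn cs h hA word _ _ (length_bas i.1), h1 i]
  · intro i
    rw [cyclotomic_eq _ he, ← toFn_horner cs h hA word k _ (h2 i).1, h3 i, toFn_replicate]
  · intro i i' j hj
    have hdeg := natDegree_cyclotomic_eq he
    have h5 := h4 i i' ⟨j, by omega⟩
    have h6 : (fn l (ys.getD i [])) ((rep cs h (cs.wordProd word ^ k) ^ j) (toFn l (xs.getD i' []))) =
        dot (ys.getD i []) (acn Al word (k * j) (xs.getD i' [])) := by
      rw [dot_eq _ _ (h2 i).2 (by rw [length_acn, (h2 i').1]), toFn_acn cs h hA word _ _ (h2 i').1, map_pow,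
        ← pow_mul]
      rfl
    rw [h6, h5]
    congr 1
    apply propext
    constructor
    · rintro ⟨h7, h8⟩
      exact ⟨h7, by simp only at h8; omega⟩
    · rintro ⟨h7, h8⟩
      exact ⟨h7, by simp only; omega⟩

end Cfsg.Agent.H130.WeylCk
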